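import Mathlib
import Cfsg.Agent.Lib.Classical.QuadStd

/-!
The six-dimensional quadratic space of minus type over two elements: facts about vectors, checked on
the 64 bit patterns.
-/

set_option autoImplicit false

namespace CfsgLib.SuzType

open CfsgLib.Classical

/-- The space. -/
abbrev V6 := (Fin 2 ⊕ Fin 2) ⊕ Fin 2 → ZMod 2

/-- The form. -/
noncomputable abbrev qm : QuadraticForm (ZMod 2) V6 := qExt 2 (qBin (1 : ZMod 2) 1)

/-- The polar form. -/
noncomputable abbrev pb (u v : V6) : ZMod 2 := QuadraticMap.polar qm u v

/-- The vector of a bit pattern. -/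
def vec (i : ℕ) : V6 := fun k => if i.testBit (match k with
  | .inl (.inl j) => j.val
  | .inl (.inr j) => 2 + j.val
  | .inr j => 4 + j.val) then 1 else 0

/-- The form on bit patterns, as a table. -/
def qn (i : ℕ) : Bool := (10619368485066599584 : ℕ).testBit i

/-- The polar form on bit patterns. -/
def bn (i j : ℕ) : Bool := (qn (i ^^^ j) != (qn i != qn j))

theorem bit_xor : ∀ a b : Bool, (if (a ^^ b) then (1 : ZMod 2) else 0) = (if a then 1 else 0) + if b then 1 else 0 := by
  decide

theorem vec_xor (i j : ℕ) : vec (i ^^^ j) = vec i + vec j := funext fun k => by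
  simp only [vec, Pi.add_apply, Nat.testBit_xor]
  exact bit_xor _ _

theorem qm_apply (v : V6) : qm v = v (.inl (.inl 0)) * v (.inl (.inr 0)) + v (.inl (.inl 1)) * v (.inl (.inr 1)) +
    (v (.inr 0) ^ 2 + 1 * v (.inr 0) * v (.inr 1) + 1 * v (.inr 1) ^ 2) := by
  rw [qm, qExt_apply, qBin_apply, Fin.sum_univ_two]

theorem qn_table : ∀ i : Fin 64, (if qn i.val then (1 : ZMod 2) else 0) =
    vec i.val (.inl (.inl 0)) * vec i.val (.inl (.inr 0)) + vec i.val (.inl (.inl 1)) * vec i.val (.inl (.inr 1)) +
    (vec i.val (.inr 0) ^ 2 + 1 * vec i.val (.inr 0) * vec i.val (.inr 1) + 1 * vec i.val (.inr 1) ^ 2) := by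
  decide +kernel

theorem qm_vec {i : ℕ} (hi : i < 64) : qm (vec i) = if qn i then 1 else 0 := by
  rw [qm_apply]; exact (qn_table ⟨i, hi⟩).symm

theorem xor_lt {i j : ℕ} (hi : i < 64) (hj : j < 64) : i ^^^ j < 64 := Nat.xor_lt_two_pow (n := 6) hi hj

theorem bool_polar : ∀ a b c : Bool, (if a then (1 : ZMod 2) else 0) - (if b then 1 else 0) - (if c then 1 else 0)
    = if (a != (b != c)) then 1 else 0 := by decide

theorem pb_vec {i j : ℕ} (hi : i < 64) (hj : j < 64) : pb (vec i) (vec j) = if bn i j then 1 else 0 := by
  rw [pb, QuadraticMap.polar, ← vec_xor, qm_vec hi, qm_vec hj, qm_vec (xor_lt hi hj)]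
  exact bool_polar _ _ _

theorem vec_inj_fin : Function.Injective (fun i : Fin 64 => vec i.val) := by
  intro i j h
  apply Fin.ext
  apply Nat.eq_of_testBit_eq
  intro k
  rcases lt_or_ge k 6 with hk | hk
  · have hb : ∀ a b : Bool, (if a then (1 : ZMod 2) else 0) = (if b then 1 else 0) → a = b := by decide
    interval_cases k
    · exact hb _ _ (by simpa [vec] using congrFun h (.inl (.inl 0)))
    · exact hb _ _ (by simpa [vec] using congrFun h (.inl (.inl 1)))
    · exact hb _ _ (by simpa [vec] using congrFun h (.inl (.inr 0)))
    · exact hb _ _ (by simpa [vec] using congrFun h (.inl (.inr 1)))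
    · exact hb _ _ (by simpa [vec] using congrFun h (.inr 0))
    · exact hb _ _ (by simpa [vec] using congrFun h (.inr 1))
  · have h2 : ∀ x : Fin 64, x.val.testBit k = false := fun x =>
      Nat.testBit_lt_two_pow (lt_of_lt_of_le x.isLt (le_trans (by norm_num) (Nat.pow_le_pow_right two_pos hk)))
    rw [h2, h2]

theorem vec_eq_iff {i j : ℕ} (hi : i < 64) (hj : j < 64) : vec i = vec j ↔ i = j :=
  ⟨fun h => congrArg Fin.val (vec_inj_fin (a₁ := ⟨i, hi⟩) (a₂ := ⟨j, hj⟩) h), fun h => h ▸ rfl⟩

theorem vec_zero : vec 0 = 0 := funext fun k => by simp [vec]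

theorem vec_surj (v : V6) : ∃ i, i < 64 ∧ vec i = v := by
  obtain ⟨i, rfl⟩ := ((Fintype.bijective_iff_injective_and_card _).2
    ⟨vec_inj_fin, by simp⟩).2 v
  exact ⟨i.val, i.isLt, rfl⟩

theorem ite_one_iff {a : Bool} : (if a then (1 : ZMod 2) else 0) = 1 ↔ a = true := by cases a <;> decide

theorem ite_zero_iff {a : Bool} : (if a then (1 : ZMod 2) else 0) = 0 ↔ a = false := by cases a <;> decide

/-- The conditions on a singular vector. -/
def singB (p : ℕ) : Bool := p != 0 && !qn p

/-- A vector of `p⊥` of value zero outside `⟨p⟩`. -/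
def sB (p s : ℕ) : Bool := !qn s && !bn p s && s != 0 && s != p

/-- A vector of `p⊥` of value one. -/
def nB (p a : ℕ) : Bool := qn a && !bn p a

/-- For all patterns. -/
def all64 (f : ℕ → Bool) : Bool := (List.range 64).all f

/-- For some pattern. -/
def any64 (f : ℕ → Bool) : Bool := (List.range 64).any f

theorem all64_get {f : ℕ → Bool} (h : all64 f = true) {i : ℕ} (hi : i < 64) : f i = true :=
  List.all_eq_true.1 h i (List.mem_range.2 hi)

theorem any64_get {f : ℕ → Bool} (h : any64 f = true) : ∃ i, i < 64 ∧ f i = true := by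
  obtain ⟨i, hi, h⟩ := List.any_eq_true.1 h
  exact ⟨i, List.mem_range.1 hi, h⟩

theorem check_T1 : all64 (fun p => !singB p || all64 fun s => !(singB s && bn p s) ||
    any64 fun a => qn a && !bn a p && !bn a s) = true := by decide +kernel

theorem check_T0 : all64 (fun p => !singB p || all64 fun s => !(singB s && !bn p s) ||
    any64 fun r => singB r && bn p r && bn s r) = true := by decide +kernel

theorem check_y : all64 (fun p => !singB p || any64 fun y => bn p y) = true := by decide +kernel

theorem check_S : all64 (fun p => !singB p || any64 fun s => sB p s) = true := by decide +kernel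

theorem check_perp : all64 (fun p => !singB p || all64 fun r =>
    (r == 0 || r == p) || any64 fun y => !bn p y && bn r y) = true := by decide +kernel

theorem check_count : all64 (fun p => !singB p || ((List.range 64).filter fun y => !bn p y).length == 32) = true := by
  decide +kernel

theorem check_1 : all64 (fun p => !singB p || all64 fun s => !sB p s ||
    any64 fun a => nB p a && !bn a s) = true := by decide +kernel

theorem check_7 : all64 (fun p => !singB p || all64 fun s => !sB p s || all64 fun t =>
    !(!qn t && !bn p t && !bn s t) || (t == 0 || t == p || t == s || t == (s ^^^ p))) = true := by decide +kernel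

theorem check_4 : all64 (fun p => !singB p || all64 fun s => !sB p s || all64 fun a =>
    !(nB p a && !bn a s) || any64 fun x => !bn p x && bn x a &&
      any64 fun b => nB p b && !bn b s && !bn x b) = true := by decide +kernel

theorem check_5 : all64 (fun p => !singB p || all64 fun v => !nB p v || all64 fun w =>
    !(nB p w && !bn v w) || (w == v || w == (v ^^^ p)) || any64 fun c => nB p c && bn v c && bn w c) = true := by
  decide +kernel

theorem check_10 : all64 (fun p => !singB p || all64 fun v => !nB p v ||
    any64 fun u => nB p u && bn u v) = true := by decide +kernel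

theorem check_8 : all64 (fun p => !singB p || all64 fun v => !nB p v || all64 fun u => !(nB p u && bn u v) ||
    all64 fun w => !(nB p w && bn w v && !bn u w) || (w == u || w == (u ^^^ p)) ||
      any64 fun c => nB p c && bn c v && bn c u && bn c w) = true := by decide +kernel

theorem check_11 : all64 (fun p => !singB p || all64 fun v => !nB p v || all64 fun u => !(nB p u && bn u v) ||
    any64 fun a => sB p a && !bn a u && !bn a v && any64 fun b => sB p b && !bn b u && !bn b v && bn a b &&
      all64 fun y => !(!bn p y && !bn y u && !bn y v && !bn y a && !bn y b) || (y == 0 || y == p)) = true := by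
  decide +kernel

end CfsgLib.SuzType
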