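import Mathlib
import Cfsg.Agent.Lib.SuzType.Facts
import Cfsg.Agent.Lib.Classical.QuadOmega

/-!
The six-dimensional space of minus type over two elements: the index-two subgroup of its isometry
group, the orbits used for the involutions, and the elements trivial on `p⊥/⟨p⟩`.
-/

set_option autoImplicit false
set_option linter.style.haveILetI false
set_option linter.unusedSimpArgs false

namespace CfsgLib.SuzType

open CfsgLib.Classical

theorem two_cases : ∀ a : ZMod 2, a = 0 ∨ a = 1 := by decide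

theorem add_self6 (v : V6) : v + v = 0 := funext fun _ => CharTwo.add_self_eq_zero _

theorem add_cancel6 (v w : V6) : v + (v + w) = w := by rw [← add_assoc, add_self6, zero_add]

theorem pb_comm (u v : V6) : pb u v = pb v u := QuadraticMap.polar_comm _ _ _

theorem pb_add_left (u u' v : V6) : pb (u + u') v = pb u v + pb u' v := QuadraticMap.polar_add_left _ _ _ _

theorem pb_add_right (u v v' : V6) : pb u (v + v') = pb u v + pb u v' := QuadraticMap.polar_add_right _ _ _ _

theorem pb_smul_left (c : ZMod 2) (u v : V6) : pb (c • u) v = c * pb u v := QuadraticMap.polar_smul_left _ _ _ _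

theorem pb_smul_right (c : ZMod 2) (u v : V6) : pb u (c • v) = c * pb u v := QuadraticMap.polar_smul_right _ _ _ _

theorem pb_self (u : V6) : pb u u = 0 := by
  rw [pb, quad_polar_self]
  generalize qm u = a
  revert a
  decide

theorem pb_zero_left (v : V6) : pb 0 v = 0 := QuadraticMap.polar_zero_left _ _

theorem pb_zero_right (v : V6) : pb v 0 = 0 := QuadraticMap.polar_zero_right _ _

theorem qm_add (u v : V6) : qm (u + v) = qm u + qm v + pb u v := quad_add _ u v

/-- A nonzero singular vector. -/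
def Sing (p : V6) : Prop := p ≠ 0 ∧ qm p = 0

/-- Zero or `p`. -/
def Pm (p x : V6) : Prop := x = 0 ∨ x = p

/-- A vector of `p⊥` of value zero outside `⟨p⟩`. -/
def SVec (p s : V6) : Prop := qm s = 0 ∧ pb p s = 0 ∧ ¬ Pm p s

/-- A vector of `p⊥` of value one. -/
def NVec (p a : V6) : Prop := qm a = 1 ∧ pb p a = 0

variable {p : V6}

theorem Pm.add {x y : V6} (hx : Pm p x) (hy : Pm p y) : Pm p (x + y) := by
  rcases hx with rfl | rfl <;> rcases hy with rfl | rfl <;> simp [Pm, add_self6]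

theorem pm_trans {x y w : V6} (h1 : Pm p (x + y)) (h2 : Pm p (y + w)) : Pm p (x + w) := by
  have := h1.add h2
  rwa [show x + y + (y + w) = x + w by rw [add_assoc, add_cancel6]] at this

theorem pm_symm {x y : V6} (h : Pm p (x + y)) : Pm p (y + x) := by rwa [add_comm]

theorem pm_self (x : V6) : Pm p (x + x) := .inl (add_self6 x)

theorem Pm.polar {x : V6} (hx : Pm p x) {y : V6} (hy : pb p y = 0) : pb x y = 0 := by
  rcases hx with rfl | rfl
  · exact pb_zero_left y
  · exact hy

theorem pm_polar {x x' : V6} (hx : Pm p (x + x')) {y : V6} (hy : pb p y = 0) : pb x y = pb x' y := by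
  have h := hx.polar hy
  rw [pb_add_left] at h
  exact CharTwo.add_eq_zero.1 h

theorem pm_quad (hp : Sing p) {x x' : V6} (hx : Pm p (x + x')) (hy : pb p x' = 0) : qm x = qm x' := by
  rcases hx with h | h
  · rw [CharTwo.add_eq_zero.1 (funext fun i => congrFun h i : x + x' = 0)]
  · rw [show x = x' + p by rw [← h, add_comm x, add_cancel6], qm_add, hp.2, pb_comm, hy, add_zero, add_zero]

/-! ### The translated facts -/

theorem pm_vec {i j : ℕ} (hi : i < 64) (hj : j < 64) : Pm (vec i) (vec j) ↔ (j == 0 || j == i) = true := by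
  simp [Pm, ← vec_zero, vec_eq_iff hj (show 0 < 64 by norm_num), vec_eq_iff hj hi]

theorem sing_vec {i : ℕ} (hi : i < 64) : Sing (vec i) ↔ singB i = true := by
  simp [Sing, singB, qm_vec hi, ← vec_zero, vec_eq_iff hi (show 0 < 64 by norm_num), ite_zero_iff]

theorem svec_vec {i j : ℕ} (hi : i < 64) (hj : j < 64) : SVec (vec i) (vec j) ↔ sB i j = true := by
  simp [SVec, sB, qm_vec hj, pb_vec hi hj, pm_vec hi hj, ite_zero_iff]
  tauto

theorem nvec_vec {i j : ℕ} (hi : i < 64) (hj : j < 64) : NVec (vec i) (vec j) ↔ nB i j = true := by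
  simp [NVec, nB, qm_vec hj, pb_vec hi hj, ite_zero_iff, ite_one_iff]

theorem fact_T1 {s : V6} (hp : Sing p) (hs : Sing s) (h : pb p s = 1) :
    ∃ a, qm a = 1 ∧ pb a p = 0 ∧ pb a s = 0 := by
  obtain ⟨i, hi, rfl⟩ := vec_surj p
  obtain ⟨j, hj, rfl⟩ := vec_surj s
  have H := all64_get check_T1 hi
  rw [(sing_vec hi).1 hp] at H
  have H' := all64_get (by simpa using H) hj
  simp only [(sing_vec hj).1 hs, ite_one_iff.1 ((pb_vec hi hj) ▸ h), Bool.and_self, Bool.not_true, Bool.false_or] at H'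
  obtain ⟨k, hk, hk'⟩ := any64_get H'
  simp only [Bool.and_eq_true, Bool.not_eq_true'] at hk'
  exact ⟨vec k, by rw [qm_vec hk, hk'.1.1]; rfl, by rw [pb_vec hk hi, hk'.1.2]; rfl,
    by rw [pb_vec hk hj, hk'.2]; rfl⟩

theorem fact_T0 {s : V6} (hp : Sing p) (hs : Sing s) (h : pb p s = 0) :
    ∃ r, Sing r ∧ pb p r = 1 ∧ pb s r = 1 := by
  obtain ⟨i, hi, rfl⟩ := vec_surj p
  obtain ⟨j, hj, rfl⟩ := vec_surj s
  have H := all64_get check_T0 hi
  rw [(sing_vec hi).1 hp] at H
  have H' := all64_get (by simpa using H) hj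
  simp only [(sing_vec hj).1 hs, ite_zero_iff.1 ((pb_vec hi hj) ▸ h), Bool.not_false, Bool.and_self, Bool.not_true,
    Bool.false_or] at H'
  obtain ⟨k, hk, hk'⟩ := any64_get H'
  simp only [Bool.and_eq_true] at hk'
  exact ⟨vec k, (sing_vec hk).2 hk'.1.1, by rw [pb_vec hi hk, hk'.1.2]; rfl, by rw [pb_vec hj hk, hk'.2]; rfl⟩

theorem fact_y (hp : Sing p) : ∃ y, pb p y = 1 := by
  obtain ⟨i, hi, rfl⟩ := vec_surj p
  have H := all64_get check_y hi
  simp only [(sing_vec hi).1 hp, Bool.not_true, Bool.false_or] at H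
  obtain ⟨k, hk, hk'⟩ := any64_get H
  exact ⟨vec k, by rw [pb_vec hi hk, hk']; rfl⟩

theorem fact_S (hp : Sing p) : ∃ s, SVec p s := by
  obtain ⟨i, hi, rfl⟩ := vec_surj p
  have H := all64_get check_S hi
  simp only [(sing_vec hi).1 hp, Bool.not_true, Bool.false_or] at H
  obtain ⟨k, hk, hk'⟩ := any64_get H
  exact ⟨vec k, (svec_vec hi hk).2 hk'⟩

theorem fact_perp (hp : Sing p) {r : V6} (h : ∀ y, pb p y = 0 → pb r y = 0) : Pm p r := by
  obtain ⟨i, hi, rfl⟩ := vec_surj p
  obtain ⟨j, hj, rfl⟩ := vec_surj r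
  have H := all64_get check_perp hi
  rw [(sing_vec hi).1 hp] at H
  have H' := all64_get (by simpa using H) hj
  rw [pm_vec hi hj]
  rcases Bool.or_eq_true_iff.1 H' with e | e
  · exact e
  · obtain ⟨k, hk, hk'⟩ := any64_get e
    simp only [Bool.and_eq_true, Bool.not_eq_true'] at hk'
    have := h (vec k) (by rw [pb_vec hi hk, hk'.1]; rfl)
    rw [pb_vec hj hk, hk'.2] at this
    exact absurd this (by decide)

theorem card_perp (hp : Sing p) : Nat.card {y : V6 // pb p y = 0} = 32 := by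
  classical
  obtain ⟨i, hi, rfl⟩ := vec_surj p
  have H := all64_get check_count hi
  simp only [(sing_vec hi).1 hp, Bool.not_true, Bool.false_or, beq_iff_eq] at H
  rw [Nat.card_eq_fintype_card, Fintype.card_subtype]
  have e : (Finset.univ.filter fun y : V6 => pb (vec i) y = 0) =
      ((List.range 64).filter fun y => !bn i y).toFinset.image vec := by
    ext y
    obtain ⟨j, hj, rfl⟩ := vec_surj y
    simp only [Finset.mem_filter, Finset.mem_univ, true_and, Finset.mem_image, List.mem_toFinset, List.mem_filter,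
      List.mem_range]
    constructor
    · intro hy
      exact ⟨j, ⟨hj, by rw [pb_vec hi hj, ite_zero_iff] at hy; simp [hy]⟩, rfl⟩
    · rintro ⟨k, ⟨hk, hk'⟩, hkj⟩
      rw [← hkj, pb_vec hi hk, ite_zero_iff]
      simpa using hk'
  rw [e, Finset.card_image_of_injOn, List.toFinset_card_of_nodup (List.nodup_range.filter _), H]
  intro a ha b hb hab
  simp only [Finset.mem_coe, List.mem_toFinset, List.mem_filter, List.mem_range] at ha hb
  exact (vec_eq_iff ha.1 hb.1).1 hab

theorem fact_1 {s : V6} (hp : Sing p) (hs : SVec p s) : ∃ a, NVec p a ∧ pb a s = 0 := by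
  obtain ⟨i, hi, rfl⟩ := vec_surj p
  obtain ⟨j, hj, rfl⟩ := vec_surj s
  have H := all64_get check_1 hi
  rw [(sing_vec hi).1 hp] at H
  have H' := all64_get (by simpa using H) hj
  simp only [(svec_vec hi hj).1 hs, Bool.not_true, Bool.false_or] at H'
  obtain ⟨k, hk, hk'⟩ := any64_get H'
  simp only [Bool.and_eq_true, Bool.not_eq_true'] at hk'
  exact ⟨vec k, (nvec_vec hi hk).2 hk'.1, by rw [pb_vec hk hj, hk'.2]; rfl⟩

theorem fact_7 {s t : V6} (hp : Sing p) (hs : SVec p s) (hq : qm t = 0) (hpt : pb p t = 0) (hst : pb s t = 0) :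
    Pm p t ∨ Pm p (t + s) := by
  obtain ⟨i, hi, rfl⟩ := vec_surj p
  obtain ⟨j, hj, rfl⟩ := vec_surj s
  obtain ⟨k, hk, rfl⟩ := vec_surj t
  have H := all64_get check_7 hi
  rw [(sing_vec hi).1 hp] at H
  have H' := all64_get (by simpa using H) hj
  rw [(svec_vec hi hj).1 hs] at H'
  have H'' := all64_get (by simpa using H') hk
  rw [qm_vec hk, ite_zero_iff] at hq
  rw [pb_vec hi hk, ite_zero_iff] at hpt
  rw [pb_vec hj hk, ite_zero_iff] at hst
  simp only [hq, hpt, hst, Bool.not_false, Bool.and_self, Bool.not_true, Bool.false_or, Bool.or_eq_true,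
    beq_iff_eq] at H''
  rcases H'' with ((rfl | rfl) | rfl) | rfl
  · exact .inl (.inl vec_zero)
  · exact .inl (.inr rfl)
  · exact .inr (pm_self _)
  · exact .inr (.inr (by rw [vec_xor, add_comm (vec j + vec i), add_cancel6]))

theorem fact_4 {s a : V6} (hp : Sing p) (hs : SVec p s) (ha : NVec p a) (has : pb a s = 0) :
    ∃ x b, pb p x = 0 ∧ pb x a = 1 ∧ NVec p b ∧ pb b s = 0 ∧ pb x b = 0 := by
  obtain ⟨i, hi, rfl⟩ := vec_surj p
  obtain ⟨j, hj, rfl⟩ := vec_surj s
  obtain ⟨k, hk, rfl⟩ := vec_surj a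
  have H := all64_get check_4 hi
  rw [(sing_vec hi).1 hp] at H
  have H' := all64_get (by simpa using H) hj
  rw [(svec_vec hi hj).1 hs] at H'
  have H'' := all64_get (by simpa using H') hk
  rw [pb_vec hk hj, ite_zero_iff] at has
  simp only [(nvec_vec hi hk).1 ha, has, Bool.not_false, Bool.and_self, Bool.not_true, Bool.false_or] at H''
  obtain ⟨m, hm, hm'⟩ := any64_get H''
  simp only [Bool.and_eq_true, Bool.not_eq_true'] at hm'
  obtain ⟨⟨h1, h2⟩, h3⟩ := hm'
  obtain ⟨n, hn, hn'⟩ := any64_get h3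
  simp only [Bool.and_eq_true, Bool.not_eq_true'] at hn'
  exact ⟨vec m, vec n, by rw [pb_vec hi hm, h1]; rfl, by rw [pb_vec hm hk, h2]; rfl, (nvec_vec hi hn).2 hn'.1.1,
    by rw [pb_vec hn hj, hn'.1.2]; rfl, by rw [pb_vec hm hn, hn'.2]; rfl⟩

theorem fact_5 {v w : V6} (hp : Sing p) (hv : NVec p v) (hw : NVec p w) (hvw : pb v w = 0) (hne : ¬ Pm p (w + v)) :
    ∃ c, NVec p c ∧ pb v c = 1 ∧ pb w c = 1 := by
  obtain ⟨i, hi, rfl⟩ := vec_surj p
  obtain ⟨j, hj, rfl⟩ := vec_surj v
  obtain ⟨k, hk, rfl⟩ := vec_surj w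
  have H := all64_get check_5 hi
  rw [(sing_vec hi).1 hp] at H
  have H' := all64_get (by simpa using H) hj
  rw [(nvec_vec hi hj).1 hv] at H'
  have H'' := all64_get (by simpa using H') hk
  rw [pb_vec hj hk, ite_zero_iff] at hvw
  simp only [(nvec_vec hi hk).1 hw, hvw, Bool.not_false, Bool.and_self, Bool.not_true, Bool.false_or,
    Bool.or_eq_true, beq_iff_eq] at H''
  rcases H'' with (rfl | rfl) | e
  · exact absurd (pm_self _) hne
  · exact absurd (.inr (by rw [vec_xor, add_comm (vec j + vec i), add_cancel6])) hne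
  · obtain ⟨m, hm, hm'⟩ := any64_get e
    simp only [Bool.and_eq_true] at hm'
    exact ⟨vec m, (nvec_vec hi hm).2 hm'.1.1, by rw [pb_vec hj hm, hm'.1.2]; rfl,
      by rw [pb_vec hk hm, hm'.2]; rfl⟩

theorem fact_10 {v : V6} (hp : Sing p) (hv : NVec p v) : ∃ u, NVec p u ∧ pb u v = 1 := by
  obtain ⟨i, hi, rfl⟩ := vec_surj p
  obtain ⟨j, hj, rfl⟩ := vec_surj v
  have H := all64_get check_10 hi
  rw [(sing_vec hi).1 hp] at H
  have H' := all64_get (by simpa using H) hj
  simp only [(nvec_vec hi hj).1 hv, Bool.not_true, Bool.false_or] at H'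
  obtain ⟨k, hk, hk'⟩ := any64_get H'
  simp only [Bool.and_eq_true] at hk'
  exact ⟨vec k, (nvec_vec hi hk).2 hk'.1, by rw [pb_vec hk hj, hk'.2]; rfl⟩

theorem fact_8 {v u w : V6} (hp : Sing p) (hv : NVec p v) (hu : NVec p u) (huv : pb u v = 1) (hw : NVec p w)
    (hwv : pb w v = 1) (huw : pb u w = 0) (hne : ¬ Pm p (w + u)) :
    ∃ c, NVec p c ∧ pb c v = 1 ∧ pb c u = 1 ∧ pb c w = 1 := by
  obtain ⟨i, hi, rfl⟩ := vec_surj p
  obtain ⟨j, hj, rfl⟩ := vec_surj v
  obtain ⟨k, hk, rfl⟩ := vec_surj u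
  obtain ⟨l, hl, rfl⟩ := vec_surj w
  have H := all64_get check_8 hi
  rw [(sing_vec hi).1 hp] at H
  have H' := all64_get (by simpa using H) hj
  rw [(nvec_vec hi hj).1 hv] at H'
  have H'' := all64_get (by simpa using H') hk
  rw [pb_vec hk hj, ite_one_iff] at huv
  rw [(nvec_vec hi hk).1 hu, huv] at H''
  have H3 := all64_get (by simpa using H'') hl
  rw [pb_vec hl hj, ite_one_iff] at hwv
  rw [pb_vec hk hl, ite_zero_iff] at huw
  simp only [(nvec_vec hi hl).1 hw, hwv, huw, Bool.not_false, Bool.and_self, Bool.not_true, Bool.false_or,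
    Bool.or_eq_true, beq_iff_eq] at H3
  rcases H3 with (rfl | rfl) | e
  · exact absurd (pm_self _) hne
  · exact absurd (.inr (by rw [vec_xor, add_comm (vec k + vec i), add_cancel6])) hne
  · obtain ⟨m, hm, hm'⟩ := any64_get e
    simp only [Bool.and_eq_true] at hm'
    exact ⟨vec m, (nvec_vec hi hm).2 hm'.1.1.1, by rw [pb_vec hm hj, hm'.1.1.2]; rfl,
      by rw [pb_vec hm hk, hm'.1.2]; rfl, by rw [pb_vec hm hl, hm'.2]; rfl⟩

/-- The hyperbolic pair orthogonal to `p`, `u` and `v`. -/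
theorem fact_11 {v u : V6} (hp : Sing p) (hv : NVec p v) (hu : NVec p u) (huv : pb u v = 1) :
    ∃ a b, SVec p a ∧ SVec p b ∧ pb a u = 0 ∧ pb a v = 0 ∧ pb b u = 0 ∧ pb b v = 0 ∧ pb a b = 1 ∧
      ∀ y, pb p y = 0 → pb y u = 0 → pb y v = 0 → pb y a = 0 → pb y b = 0 → Pm p y := by
  obtain ⟨i, hi, rfl⟩ := vec_surj p
  obtain ⟨j, hj, rfl⟩ := vec_surj v
  obtain ⟨k, hk, rfl⟩ := vec_surj u
  have H := all64_get check_11 hi
  rw [(sing_vec hi).1 hp] at H
  have H' := all64_get (by simpa using H) hj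
  rw [(nvec_vec hi hj).1 hv] at H'
  have H'' := all64_get (by simpa using H') hk
  rw [pb_vec hk hj, ite_one_iff] at huv
  simp only [(nvec_vec hi hk).1 hu, huv, Bool.and_self, Bool.not_true, Bool.false_or] at H''
  obtain ⟨a, ha, ha'⟩ := any64_get H''
  simp only [Bool.and_eq_true, Bool.not_eq_true'] at ha'
  obtain ⟨⟨⟨h1, h2⟩, h3⟩, h4⟩ := ha'
  obtain ⟨b, hb, hb'⟩ := any64_get h4
  simp only [Bool.and_eq_true, Bool.not_eq_true'] at hb'
  obtain ⟨⟨⟨⟨g1, g2⟩, g3⟩, g4⟩, g5⟩ := hb'
  refine ⟨vec a, vec b, (svec_vec hi ha).2 h1, (svec_vec hi hb).2 g1, by rw [pb_vec ha hk, h2]; rfl,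
    by rw [pb_vec ha hj, h3]; rfl, by rw [pb_vec hb hk, g2]; rfl, by rw [pb_vec hb hj, g3]; rfl,
    by rw [pb_vec ha hb, g4]; rfl, fun y e1 e2 e3 e4 e5 => ?_⟩
  obtain ⟨m, hm, rfl⟩ := vec_surj y
  rw [pb_vec hi hm, ite_zero_iff] at e1
  rw [pb_vec hm hk, ite_zero_iff] at e2
  rw [pb_vec hm hj, ite_zero_iff] at e3
  rw [pb_vec hm ha, ite_zero_iff] at e4
  rw [pb_vec hm hb, ite_zero_iff] at e5
  have := all64_get g5 hm
  simp only [e1, e2, e3, e4, e5, Bool.not_false, Bool.and_self, Bool.not_true, Bool.false_or] at this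
  exact (pm_vec hi hm).2 this

theorem binAniso_one : BinAniso (1 : ZMod 2) 1 := by unfold BinAniso; decide

theorem polarNondeg_qm : PolarNondeg qm := polarNondeg_qExt (polarNondeg_qBin binAniso_one) 2

theorem pb_nondeg {v : V6} (h : ∀ w, pb v w = 0) : v = 0 := polarNondeg_qm v h

theorem hex6 : Fintype.card (ZMod 2) ≠ 2 ∨ Module.finrank (ZMod 2) V6 ≠ 4 := by
  right; rw [Module.finrank_pi]; simp

theorem card_qAut6 : Nat.card (qAut qm) = 51840 := by
  rw [card_qAut_minus binAniso_one 2]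
  simp [Finset.prod_range_succ]

/-! ### The index two subgroup -/

/-- The subgroup of index two. -/
noncomputable def Ev : Subgroup (qAut qm) := commutator (qAut qm)

theorem index_ev : Ev.index = 2 :=
  index_commutator_two qm polarNondeg_qm (by rw [Module.finrank_pi]; simp) hex6

/-- The reflection. -/
noncomputable def rf (a : V6) (ha : qm a = 1) : qAut qm := qRefl qm (v := a) (by rw [ha]; exact one_ne_zero)

theorem rf_apply {a : V6} (ha : qm a = 1) (x : V6) : (rf a ha).1 x = x + pb x a • a := by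
  rw [rf, qRefl_apply, ha, inv_one, one_mul, sub_eq_add_neg]
  congr 1
  exact funext fun i => CharTwo.neg_eq _

theorem rf_fix {a x : V6} (ha : qm a = 1) (h : pb x a = 0) : (rf a ha).1 x = x := by
  rw [rf_apply, h, zero_smul, add_zero]

theorem rf_move {a x : V6} (ha : qm a = 1) (h : pb x a = 1) : (rf a ha).1 x = x + a := by
  rw [rf_apply, h, one_smul]

theorem mem_ev_iff (g : qAut qm) : g ∈ Ev ↔ Even (qRank qm g) := by
  classical
  haveI := finite_qAut qm
  obtain ⟨D, hD, hD'⟩ := exists_parity_hom qm polarNondeg_qm (reflGroup_eq_top qm polarNondeg_qm hex6)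
  have hle : Ev ≤ D.ker := Abelianization.commutator_subset_ker D
  have hne : D.ker ≠ ⊤ := fun h => by
    obtain ⟨a, ha⟩ := exists_value qm polarNondeg_qm (by rw [Module.finrank_pi]; simp) (one_ne_zero (α := ZMod 2))
    have h1 := hD' a (by rw [ha]; exact one_ne_zero)
    rw [show D (qRefl qm _) = 1 from MonoidHom.mem_ker.1 (h ▸ Subgroup.mem_top _)] at h1
    exact absurd h1 (by decide)
  have he : Ev = D.ker := by
    by_contra hne'
    have h2 := Subgroup.index_dvd_of_le hle
    rw [index_ev] at h2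
    rcases (Nat.dvd_prime Nat.prime_two).1 h2 with e | e
    · exact hne (Subgroup.index_eq_one.1 e)
    · have h3 := Subgroup.card_mul_index D.ker
      have h4 := Subgroup.card_mul_index Ev
      rw [index_ev] at h4
      rw [e] at h3
      exact hne' (Subgroup.eq_of_le_of_card_ge hle (by omega))
  rw [he, MonoidHom.mem_ker, hD, ← ZMod.natCast_eq_zero_iff_even]
  exact ⟨fun h => congrArg Multiplicative.toAdd h, fun h => by rw [h]; rfl⟩

theorem rf_not_mem {a : V6} (ha : qm a = 1) : rf a ha ∉ Ev := by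
  intro h
  haveI := finite_qAut qm
  obtain ⟨D, hD, hD'⟩ := exists_parity_hom qm polarNondeg_qm (reflGroup_eq_top qm polarNondeg_qm hex6)
  have h1 := hD' a (by rw [ha]; exact one_ne_zero)
  have h2 := (ZMod.natCast_eq_zero_iff_even).2 ((mem_ev_iff _).1 h)
  rw [rf] at h2
  rw [hD, h2] at h1
  exact absurd h1 (by decide)

theorem rf_mul_mem {a b : V6} (ha : qm a = 1) (hb : qm b = 1) : rf a ha * rf b hb ∈ Ev := by
  exact (Subgroup.mul_mem_iff_of_index_two index_ev).2
    (iff_of_false (rf_not_mem ha) (rf_not_mem hb))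

/-! ### Orbits -/

theorem pb_map (g : qAut qm) (u v : V6) : pb (g.1 u) (g.1 v) = pb u v := qAut_polar g u v

theorem ev_step {p q : V6} (hp : Sing p) (hq : Sing q) (h : pb p q = 1) : ∃ g ∈ Ev, g.1 p = q := by
  obtain ⟨a, ha, hap, -⟩ := fact_T1 hp hq h
  have hpq : qm (p + q) = 1 := by rw [qm_add, hp.2, hq.2, h]; decide
  refine ⟨rf (p + q) hpq * rf a ha, rf_mul_mem hpq ha, ?_⟩
  rw [qAut_mul_apply, rf_fix ha (by rw [pb_comm, hap]), rf_move hpq (by rw [pb_add_right, pb_self, h, zero_add]),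
    add_cancel6]

/-- Transitivity on the nonzero singular vectors. -/
theorem ev_sing {p q : V6} (hp : Sing p) (hq : Sing q) : ∃ g ∈ Ev, g.1 p = q := by
  rcases two_cases (pb p q) with h | h
  · obtain ⟨r, hr, h1, h2⟩ := fact_T0 hp hq h
    obtain ⟨g, hg, e⟩ := ev_step hp hr h1
    obtain ⟨g', hg', e'⟩ := ev_step hr hq (by rw [pb_comm, h2])
    exact ⟨g' * g, mul_mem hg' hg, by rw [qAut_mul_apply, e, e']⟩
  · exact ev_step hp hq h

theorem pm_map {g : qAut qm} (hg : g.1 p = p) {x : V6} (hx : Pm p x) : Pm p (g.1 x) := by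
  rcases hx with rfl | rfl
  · exact .inl (map_zero _)
  · exact .inr hg

theorem pm_map_iff {g : qAut qm} (hg : g.1 p = p) {x : V6} : Pm p (g.1 x) ↔ Pm p x := by
  refine ⟨fun h => ?_, pm_map hg⟩
  rcases h with h | h
  · exact .inl (g.1.map_eq_zero_iff.1 h)
  · exact .inr (g.1.injective (h.trans hg.symm))

theorem perp_map {g : qAut qm} (hg : g.1 p = p) {x : V6} (hx : pb p x = 0) : pb p (g.1 x) = 0 := by
  rw [← hg, pb_map, hx]

theorem nvec_map {g : qAut qm} (hg : g.1 p = p) {x : V6} (hx : NVec p x) : NVec p (g.1 x) :=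
  ⟨(qAut_map g x).trans hx.1, perp_map hg hx.2⟩

theorem svec_map {g : qAut qm} (hg : g.1 p = p) {x : V6} (hx : SVec p x) : SVec p (g.1 x) :=
  ⟨(qAut_map g x).trans hx.1, perp_map hg hx.2.1, fun h => hx.2.2 ((pm_map_iff hg).1 h)⟩

/-- Transitivity on the singular classes of `p⊥`. -/
theorem ev_svec (hp : Sing p) {s t : V6} (hs : SVec p s) (ht : SVec p t) :
    ∃ g ∈ Ev, g.1 p = p ∧ Pm p (g.1 s + t) := by
  rcases two_cases (pb s t) with h | h
  · refine ⟨1, one_mem _, rfl, ?_⟩
    exact (fact_7 hp hs ht.1 ht.2.1 h).elim (fun e => absurd e ht.2.2) pm_symm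
  · obtain ⟨a, ha, has⟩ := fact_1 hp hs
    have hst : qm (s + t) = 1 := by rw [qm_add, hs.1, ht.1, h]; decide
    refine ⟨rf (s + t) hst * rf a ha.1, rf_mul_mem hst ha.1, ?_, ?_⟩
    · rw [qAut_mul_apply, rf_fix ha.1 ha.2, rf_fix hst (by rw [pb_add_right, hs.2.1, ht.2.1, add_zero])]
    · rw [qAut_mul_apply, rf_fix ha.1 (by rw [pb_comm, has]),
        rf_move hst (by rw [pb_add_right, pb_self, h, zero_add]), add_cancel6]
      exact pm_self t

theorem ev_nvec_step (hp : Sing p) {v w : V6} (hv : NVec p v) (hw : NVec p w) (h : pb v w = 1) :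
    ∃ g ∈ Ev, g.1 p = p ∧ g.1 v = w := by
  have hvw : qm (v + w) = 1 := by rw [qm_add, hv.1, hw.1, h]; decide
  refine ⟨rf (v + w) hvw * rf v hv.1, rf_mul_mem hvw hv.1, ?_, ?_⟩
  · rw [qAut_mul_apply, rf_fix hv.1 hv.2, rf_fix hvw (by rw [pb_add_right, hv.2, hw.2, add_zero])]
  · rw [qAut_mul_apply, rf_fix hv.1 (pb_self v), rf_move hvw (by rw [pb_add_right, pb_self, h, zero_add]),
      add_cancel6]

/-- Transitivity on the classes of value one in `p⊥`. -/
theorem ev_nvec (hp : Sing p) {v w : V6} (hv : NVec p v) (hw : NVec p w) :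
    ∃ g ∈ Ev, g.1 p = p ∧ Pm p (g.1 v + w) := by
  rcases two_cases (pb v w) with h | h
  · by_cases hne : Pm p (w + v)
    · exact ⟨1, one_mem _, rfl, pm_symm hne⟩
    · obtain ⟨c, hc, h1, h2⟩ := fact_5 hp hv hw h hne
      obtain ⟨g, hg, gp, gv⟩ := ev_nvec_step hp hv hc h1
      obtain ⟨g', hg', gp', gc⟩ := ev_nvec_step hp hc hw (by rw [pb_comm, h2])
      exact ⟨g' * g, mul_mem hg' hg, by rw [qAut_mul_apply, gp, gp'],
        by rw [qAut_mul_apply, gv, gc]; exact pm_self w⟩
  · obtain ⟨g, hg, gp, gv⟩ := ev_nvec_step hp hv hw h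
    exact ⟨g, hg, gp, by rw [gv]; exact pm_self w⟩

theorem ev_pair_step (hp : Sing p) {v u w : V6} (hv : NVec p v) (hu : NVec p u) (huv : pb u v = 1)
    (hw : NVec p w) (hwv : pb w v = 1) (huw : pb u w = 1) : ∃ g ∈ Ev, g.1 p = p ∧ g.1 v = v ∧ g.1 u = w := by
  obtain ⟨a, b, ha, hb, au, av, bu, bv, hab, -⟩ := fact_11 hp hv hu huv
  have hq : qm (a + b) = 1 := by rw [qm_add, ha.1, hb.1, hab]; decide
  have hc : qm (u + w) = 1 := by rw [qm_add, hu.1, hw.1, huw]; decide
  refine ⟨rf (u + w) hc * rf (a + b) hq, rf_mul_mem hc hq, ?_, ?_, ?_⟩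
  · rw [qAut_mul_apply, rf_fix hq (by rw [pb_add_right, ha.2.1, hb.2.1, add_zero]),
      rf_fix hc (by rw [pb_add_right, hu.2, hw.2, add_zero])]
  · rw [qAut_mul_apply, rf_fix hq (by rw [pb_add_right, pb_comm v a, av, pb_comm v b, bv, add_zero]),
      rf_fix hc (by rw [pb_add_right, pb_comm v u, huv, pb_comm v w, hwv]; decide)]
  · rw [qAut_mul_apply, rf_fix hq (by rw [pb_add_right, pb_comm u a, au, pb_comm u b, bu, add_zero]),
      rf_move hc (by rw [pb_add_right, pb_self, huw, zero_add]), add_cancel6]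

/-- Transitivity on the pairs of classes of value one with product one. -/
theorem ev_pair (hp : Sing p) {v u v' u' : V6} (hv : NVec p v) (hu : NVec p u) (huv : pb u v = 1)
    (hv' : NVec p v') (hu' : NVec p u') (huv' : pb u' v' = 1) :
    ∃ g ∈ Ev, g.1 p = p ∧ Pm p (g.1 v + v') ∧ Pm p (g.1 u + u') := by
  obtain ⟨g, hg, gp, gv⟩ := ev_nvec hp hv hv'
  have hu1 := nvec_map gp hu
  have h1 : pb (g.1 u) v' = 1 := by
    rw [pb_comm, ← pm_polar gv hu1.2, pb_map, pb_comm, huv]
  obtain ⟨g', hg', gp', gv', gu'⟩ : ∃ g' ∈ Ev, g'.1 p = p ∧ g'.1 v' = v' ∧ Pm p (g'.1 (g.1 u) + u') := by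
    rcases two_cases (pb (g.1 u) u') with h | h
    · by_cases hne : Pm p (u' + g.1 u)
      · exact ⟨1, one_mem _, rfl, rfl, pm_symm hne⟩
      · obtain ⟨c, hc, c1, c2, c3⟩ := fact_8 hp hv' hu1 h1 hu' huv' h hne
        obtain ⟨k, hk, kp, kv, ku⟩ := ev_pair_step hp hv' hu1 h1 hc c1 (by rw [pb_comm, c2])
        obtain ⟨k', hk', kp', kv', ku'⟩ := ev_pair_step hp hv' hc c1 hu' huv' c3
        exact ⟨k' * k, mul_mem hk' hk, by rw [qAut_mul_apply, kp, kp'], by rw [qAut_mul_apply, kv, kv'],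
          by rw [qAut_mul_apply, ku, ku']; exact pm_self u'⟩
    · obtain ⟨k, hk, kp, kv, ku⟩ := ev_pair_step hp hv' hu1 h1 hu' huv' h
      exact ⟨k, hk, kp, kv, by rw [ku]; exact pm_self u'⟩
  refine ⟨g' * g, mul_mem hg' hg, by rw [qAut_mul_apply, gp, gp'], ?_, by rw [qAut_mul_apply]; exact gu'⟩
  rw [qAut_mul_apply]
  have := pm_map gp' gv
  rwa [map_add, gv'] at this

/-! ### Elements trivial on `p⊥/⟨p⟩` -/

/-- `g` fixes `p` and is trivial on `p⊥/⟨p⟩`. -/
def InT (p : V6) (g : qAut qm) : Prop := g.1 p = p ∧ ∀ x, pb p x = 0 → Pm p (g.1 x + x)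

/-- A vector not orthogonal to `p`. -/
noncomputable def pt (p : V6) : V6 := open Classical in if h : ∃ y, pb p y = 1 then h.choose else 0

theorem pt_spec (hp : Sing p) : pb p (pt p) = 1 := by
  rw [pt, dif_pos (fact_y hp)]
  exact (fact_y hp).choose_spec

/-- The vector attached to an element of `InT p`. -/
noncomputable def tv (p : V6) (g : qAut qm) : V6 := g.1 (pt p) + pt p

theorem tv_one (p : V6) : tv p 1 = 0 := add_self6 _

variable (hp : Sing p) {g : qAut qm} (hg : InT p g)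

include hp hg

theorem tv_perp : pb p (tv p g) = 0 := by
  have h := pb_map g p (pt p)
  rw [hg.1] at h
  rw [tv, pb_add_right, h, CharTwo.add_self_eq_zero]

/-- The action on `p⊥`. -/
theorem inT_apply {x : V6} (hx : pb p x = 0) : g.1 x + x = pb x (tv p g) • p := by
  have key : pb (g.1 x + x) (pt p) = pb x (tv p g) := by
    have h1 := pb_map g x (pt p)
    have h2 := (hg.2 x hx).polar (tv_perp hp hg)
    rw [tv, pb_add_right, pb_add_left, pb_add_left, h1] at h2
    rw [tv, pb_add_left, pb_add_right]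
    revert h2
    generalize pb x (pt p) = a
    generalize pb (g.1 x) (pt p) = b
    generalize pb x (g.1 (pt p)) = c
    revert a b c
    decide
  rcases hg.2 x hx with h | h
  · rw [h, pb_zero_left] at key
    rw [h, ← key, zero_smul]
  · rw [h, pt_spec hp] at key
    rw [h, ← key, one_smul]

/-- The general formula. -/
theorem inT_formula (x : V6) :
    g.1 x + x = pb p x • tv p g + pb (x + pb p x • pt p) (tv p g) • p := by
  have hx : pb p (x + pb p x • pt p) = 0 := by
    rw [pb_add_right, pb_smul_right, pt_spec hp, mul_one, CharTwo.add_self_eq_zero]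
  rw [← inT_apply hp hg hx, tv, map_add, map_smul, smul_add]
  funext i
  simp only [Pi.add_apply, Pi.smul_apply, smul_eq_mul]
  exact (by decide : ∀ a b c d e : ZMod 2, a + b = e * c + e * d + (a + e * c + (b + e * d))) _ _ _ _ _

theorem inT_range_quad (x : V6) : qm (g.1 x + x) = pb p x * qm (tv p g) := by
  rw [inT_formula hp hg x, qm_add, quad_smul, quad_smul, hp.2, pb_smul_left, pb_smul_right, pb_comm _ p,
    tv_perp hp hg, mul_zero, mul_zero, mul_zero, add_zero, add_zero]
  congr 1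
  rcases two_cases (pb p x) with h | h <;> rw [h] <;> rfl

/-- The unique singular vector of the image. -/
theorem inT_sing_unique (hw : qm (tv p g) = 1) {x : V6} (h0 : qm (g.1 x + x) = 0) : Pm p (g.1 x + x) := by
  rw [inT_range_quad hp hg, hw, mul_one] at h0
  rw [inT_formula hp hg x, h0, zero_smul, zero_smul, add_zero, zero_add]
  rcases two_cases (pb x (tv p g)) with e | e <;> rw [e]
  · exact .inl (zero_smul _ _)
  · exact .inr (one_smul _ _)

theorem inT_trivial (hw : Pm p (tv p g)) : g = 1 := by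
  have h0 : ∀ x, pb p x = 0 → g.1 x = x := fun x hx => by
    have h := inT_apply hp hg hx
    rw [pb_comm x, hw.polar hx, zero_smul] at h
    exact CharTwo.add_eq_zero.1 (funext fun i => congrFun h i)
  refine qAut_ext fun x => ?_
  show g.1 x = x
  have hy : g.1 (pt p) = pt p := by
    rcases hw with h | h
    · exact CharTwo.add_eq_zero.1 (funext fun i => congrFun h i)
    · exfalso
      have h1 : g.1 (pt p) = pt p + tv p g := by rw [tv, add_comm (g.1 _), add_cancel6]
      rw [h] at h1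
      have h2 := qAut_map g (pt p)
      rw [h1, qm_add, hp.2, add_zero, pb_comm, pt_spec hp, add_eq_left] at h2
      exact one_ne_zero h2
  have hx : pb p (x + pb p x • pt p) = 0 := by
    rw [pb_add_right, pb_smul_right, pt_spec hp, mul_one, CharTwo.add_self_eq_zero]
  have := h0 _ hx
  rw [map_add, map_smul, hy] at this
  exact add_right_cancel this

theorem inT_mem_ev : g ∈ Ev := by
  classical
  by_cases hw : Pm p (tv p g)
  · rw [inT_trivial hp hg hw]; exact one_mem _
  rw [mem_ev_iff]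
  set L := LinearMap.range (g.1.toLinearMap - LinearMap.id) with hL
  have hap : ∀ x, (g.1.toLinearMap - LinearMap.id : V6 →ₗ[ZMod 2] V6) x = g.1 x + x := fun x => by
    simp only [LinearMap.sub_apply, LinearEquiv.coe_coe, LinearMap.id_apply]
    exact funext fun i => CharTwo.sub_eq_add _ _
  have hle : L ≤ Submodule.span (ZMod 2) {tv p g, p} := by
    rintro _ ⟨x, rfl⟩
    rw [hap, inT_formula hp hg x]
    refine add_mem (Submodule.smul_mem _ (pb p x) ?_) (Submodule.smul_mem _ (pb (x + pb p x • pt p) (tv p g)) ?_) <;>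
      exact Submodule.subset_span (by simp)
  have hge : Submodule.span (ZMod 2) {tv p g, p} ≤ L := by
    rw [Submodule.span_le, Set.insert_subset_iff, Set.singleton_subset_iff]
    refine ⟨⟨pt p, hap _⟩, ?_⟩
    obtain ⟨x, hx, hx'⟩ : ∃ x, pb p x = 0 ∧ pb (tv p g) x ≠ 0 := by
      by_contra h
      push Not at h
      exact hw (fact_perp hp h)
    exact ⟨x, by rw [hap, inT_apply hp hg hx, pb_comm, (two_cases _).resolve_left hx', one_smul]⟩
  have hli : LinearIndependent (ZMod 2) ![tv p g, p] := by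
    rw [LinearIndependent.pair_iff]
    intro a b hab
    rcases two_cases a with rfl | rfl <;> rcases two_cases b with rfl | rfl
    · exact ⟨rfl, rfl⟩
    · exact absurd (by simpa using hab) hp.1
    · exact absurd (.inl (by simpa using hab)) hw
    · exact absurd (.inr (CharTwo.add_eq_zero.1 (funext fun i => congrFun (by simpa using hab) i))) hw
  refine ⟨1, ?_⟩
  show Module.finrank (ZMod 2) L = 1 + 1
  rw [le_antisymm hle hge, show ({tv p g, p} : Set V6) = Set.range ![tv p g, p] by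
    simp [Set.range, Fin.exists_fin_two]; ext; simp [eq_comm], finrank_span_eq_card hli]
  simp

omit hp hg

/-- An element of `Ev` fixing a pair of classes is trivial on `p⊥/⟨p⟩`. -/
theorem inT_of_fix_pair (hp : Sing p) {v u : V6} (hv : NVec p v) (hu : NVec p u) (huv : pb u v = 1)
    {g : qAut qm} (hg : g ∈ Ev) (gp : g.1 p = p) (gv : Pm p (g.1 v + v)) (gu : Pm p (g.1 u + u)) : InT p g := by
  obtain ⟨a, b, ha, hb, au, av, bu, bv, hab, hspan⟩ := fact_11 hp hv hu huv
  have hdec : ∀ x, pb p x = 0 → Pm p (x + (pb x v • u + pb x u • v + pb x b • a + pb x a • b)) := fun x hx => by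
    have hvu : pb v u = 1 := by rw [pb_comm, huv]
    have hba : pb b a = 1 := by rw [pb_comm, hab]
    have ua : pb u a = 0 := by rw [pb_comm, au]
    have ub : pb u b = 0 := by rw [pb_comm, bu]
    have va : pb v a = 0 := by rw [pb_comm, av]
    have vb : pb v b = 0 := by rw [pb_comm, bv]
    refine hspan _ ?_ ?_ ?_ ?_ ?_ <;>
      simp only [pb_add_left, pb_add_right, pb_smul_left, pb_smul_right, hx, hu.2, hv.2, ha.2.1, hb.2.1, pb_self,
        huv, hvu, au, av, bu, bv, hab, hba, ua, ub, va, vb] <;>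
      simp [CharTwo.add_self_eq_zero]
  have hcl : ∀ y, SVec p y → pb y u = 0 → pb y v = 0 → Pm p (y + a) ∨ Pm p (y + b) := fun y hy yu yv => by
    have h1 := hdec y hy.2.1
    rw [yu, yv, zero_smul, zero_smul, zero_add, zero_add] at h1
    have h2 := pm_quad hp h1 (by rw [pb_add_right, pb_smul_right, pb_smul_right, ha.2.1, hb.2.1]; simp)
    rw [hy.1, qm_add, quad_smul, quad_smul, ha.1, hb.1, mul_zero, mul_zero, pb_smul_left, pb_smul_right, hab,
      zero_add, zero_add, mul_one] at h2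
    rcases two_cases (pb y b) with e | e <;> rcases two_cases (pb y a) with e' | e' <;> rw [e, e'] at h1 h2
    · exact absurd (by simpa using h1) hy.2.2
    · exact .inr (by simpa using h1)
    · exact .inl (by simpa using h1)
    · exact absurd h2 (by decide)
  have hfix : ∀ x, pb p x = 0 → pb x u = 0 ∧ pb x v = 0 → pb (g.1 x) u = 0 ∧ pb (g.1 x) v = 0 :=
    fun x hx hxuv => ⟨by rw [pb_comm, ← pm_polar gu (perp_map gp hx), pb_map, pb_comm, hxuv.1],
      by rw [pb_comm, ← pm_polar gv (perp_map gp hx), pb_map, pb_comm, hxuv.2]⟩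
  have hga := hcl _ (svec_map gp ha) (hfix a ha.2.1 ⟨au, av⟩).1 (hfix a ha.2.1 ⟨au, av⟩).2
  have hgb := hcl _ (svec_map gp hb) (hfix b hb.2.1 ⟨bu, bv⟩).1 (hfix b hb.2.1 ⟨bu, bv⟩).2
  have hsame : ∀ c, pb p c = 0 → Pm p (g.1 a + c) → Pm p (g.1 b + c) → False := fun c hc h1 h2 => by
    have := pm_polar h1 (perp_map gp hb.2.1)
    rw [pb_map, hab, pb_comm, pm_polar h2 hc, pb_self] at this
    exact one_ne_zero this
  have htriv : ∀ g : qAut qm, g.1 p = p → Pm p (g.1 v + v) → Pm p (g.1 u + u) → Pm p (g.1 a + a) →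
      Pm p (g.1 b + b) → InT p g := fun g gp gv gu ga gb => by
    refine ⟨gp, fun x hx => ?_⟩
    set y := pb x v • u + pb x u • v + pb x b • a + pb x a • b with hy
    have hsm : ∀ (c : ZMod 2) (w : V6), Pm p (g.1 w + w) → Pm p (g.1 (c • w) + c • w) := fun c w hw => by
      rcases two_cases c with rfl | rfl
      · simp [Pm]
      · simpa using hw
    have hadd : ∀ w w' : V6, Pm p (g.1 w + w) → Pm p (g.1 w' + w') → Pm p (g.1 (w + w') + (w + w')) :=
      fun w w' h h' => by
        have := h.add h'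
        rwa [add_add_add_comm, ← map_add] at this
    have hyy : Pm p (g.1 y + y) :=
      hadd _ _ (hadd _ _ (hadd _ _ (hsm _ _ gu) (hsm _ _ gv)) (hsm _ _ ga)) (hsm _ _ gb)
    have h1 : Pm p (g.1 x + g.1 y) := by rw [← map_add]; exact pm_map gp (hdec x hx)
    exact pm_trans (pm_trans h1 hyy) (pm_symm (hdec x hx))
  rcases hga with h1 | h1 <;> rcases hgb with h2 | h2
  · exact (hsame a ha.2.1 h1 h2).elim
  · exact htriv g gp gv gu h1 h2
  · exfalso
    have hq : qm (a + b) = 1 := by rw [qm_add, ha.1, hb.1, hab]; decide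
    set r := rf (a + b) hq with hr
    have rp : r.1 p = p := rf_fix hq (by rw [pb_add_right, ha.2.1, hb.2.1, add_zero])
    have ru : r.1 u = u := rf_fix hq (by rw [pb_add_right, pb_comm u a, au, pb_comm u b, bu, add_zero])
    have rv : r.1 v = v := rf_fix hq (by rw [pb_add_right, pb_comm v a, av, pb_comm v b, bv, add_zero])
    have rb : r.1 b = a := by
      rw [hr, rf_move hq (by rw [pb_add_right, pb_self, pb_comm b a, hab, add_zero]), add_comm a b, add_cancel6]
    have ra : r.1 a = b := by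
      rw [hr, rf_move hq (by rw [pb_add_right, pb_self, hab, zero_add]), add_cancel6]
    have hin : InT p (r * g) := by
      refine htriv _ ?_ ?_ ?_ ?_ ?_
      · rw [qAut_mul_apply, gp, rp]
      · have := pm_map rp gv; rwa [map_add, rv] at this
      · have := pm_map rp gu; rwa [map_add, ru] at this
      · have := pm_map rp h1; rwa [map_add, rb] at this
      · have := pm_map rp h2; rwa [map_add, ra] at this
    exact rf_not_mem hq ((mul_mem_cancel_right hg).1 (inT_mem_ev hp hin))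
  · exact (hsame b hb.2.1 h1 h2).elim

/-- The image of an involution of `Ev`. -/
theorem exists_inT_of_invol {g : qAut qm} (hg : g ∈ Ev) (h2 : ∀ x, g.1 (g.1 x) = x) (h1 : g ≠ 1) :
    ∃ p, Sing p ∧ InT p g := by
  classical
  set φ : V6 →ₗ[ZMod 2] V6 := g.1.toLinearMap - LinearMap.id with hφ
  have hap : ∀ x, φ x = g.1 x + x := fun x => by
    simp only [hφ, LinearMap.sub_apply, LinearEquiv.coe_coe, LinearMap.id_apply]
    exact funext fun i => CharTwo.sub_eq_add _ _
  have hfix : ∀ x, g.1 (g.1 x + x) = g.1 x + x := fun x => by rw [map_add, h2, add_comm]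
  have hadj : ∀ x y, pb (g.1 x + x) y = pb x (g.1 y + y) := fun x y => by
    rw [pb_add_left, pb_add_right]
    congr 1
    conv_lhs => rw [← h2 y]
    exact pb_map g x (g.1 y)
  have hiso : ∀ x y, pb (g.1 x + x) (g.1 y + y) = 0 := fun x y => by
    rw [hadj, hfix, add_self6, pb_zero_right]
  have hle : LinearMap.range φ ≤ LinearMap.ker φ := by
    rintro _ ⟨x, rfl⟩
    rw [LinearMap.mem_ker, hap, hap, hfix, add_self6]
  have hrk : qRank qm g = Module.finrank (ZMod 2) (LinearMap.range φ) := rfl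
  have h6 : Module.finrank (ZMod 2) V6 = 6 := by rw [Module.finrank_pi]; simp
  have hsum := φ.finrank_range_add_finrank_ker
  have hmono := Submodule.finrank_mono hle
  obtain ⟨k, hk⟩ := (mem_ev_iff g).1 hg
  have hpos : Module.finrank (ZMod 2) (LinearMap.range φ) ≠ 0 := by
    intro h0
    rw [Submodule.finrank_eq_zero, LinearMap.range_eq_bot] at h0
    refine h1 (qAut_ext fun x => ?_)
    have := hap x
    rw [h0, LinearMap.zero_apply] at this
    exact CharTwo.add_eq_zero.1 (funext fun i => congrFun this.symm i)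
  have hr2 : Module.finrank (ZMod 2) (LinearMap.range φ) = 2 := by omega
  have hcard : Nat.card (LinearMap.range φ) = 4 := by
    rw [Module.natCard_eq_pow_finrank (K := ZMod 2), hr2, Nat.card_zmod]; norm_num
  obtain ⟨w₁, w₂, h0₁, h0₂, h12⟩ : ∃ w₁ w₂ : LinearMap.range φ, w₁ ≠ 0 ∧ w₂ ≠ 0 ∧ w₁ ≠ w₂ := by
    haveI := Fintype.ofFinite (LinearMap.range φ)
    have h4 : 2 < (Finset.univ.erase (0 : LinearMap.range φ)).card := by
      rw [Finset.card_erase_of_mem (Finset.mem_univ _), Finset.card_univ, ← Nat.card_eq_fintype_card, hcard]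
      norm_num
    obtain ⟨a, b, c, ha, hb, -, hab, -, -⟩ := Finset.two_lt_card_iff.1 h4
    exact ⟨a, b, (Finset.mem_erase.1 ha).1, (Finset.mem_erase.1 hb).1, hab⟩
  obtain ⟨p, hp, hpr⟩ : ∃ p, Sing p ∧ p ∈ LinearMap.range φ := by
    rcases two_cases (qm (w₁ : V6)) with e₁ | e₁
    · exact ⟨w₁, ⟨fun h => h0₁ (Subtype.ext h), e₁⟩, w₁.2⟩
    rcases two_cases (qm (w₂ : V6)) with e₂ | e₂
    · exact ⟨w₂, ⟨fun h => h0₂ (Subtype.ext h), e₂⟩, w₂.2⟩
    refine ⟨_, ⟨fun h => h12 (Subtype.ext (CharTwo.add_eq_zero.1 (funext fun i => congrFun h i))), ?_⟩,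
      add_mem w₁.2 w₂.2⟩
    obtain ⟨x, hx⟩ := w₁.2
    obtain ⟨y, hy⟩ := w₂.2
    rw [qm_add, e₁, e₂, ← hx, ← hy, hap, hap, hiso]
    decide
  obtain ⟨v₀, hv₀⟩ := hpr
  rw [hap] at hv₀
  refine ⟨p, hp, by rw [← hv₀, hfix], fun u hu => ?_⟩
  by_contra hne
  simp only [Pm, not_or] at hne
  have hv₀p : pb v₀ p = 0 := by
    have h := qAut_map g v₀
    rw [show g.1 v₀ = v₀ + p by rw [← hv₀, add_comm (g.1 v₀), add_cancel6], qm_add, hp.2, add_zero,
      add_eq_left] at h
    exact h
  have hv₀w : pb v₀ (g.1 u + u) = 0 := by rw [← hadj, hv₀, hu]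
  -- the four elements of the range
  let S : Finset V6 := {0, p, g.1 u + u, p + (g.1 u + u)}
  have hS : S.card = 4 := by
    have e : p + (g.1 u + u) ≠ g.1 u + u := fun h => hp.1 (add_eq_right.1 h)
    have e' : p + (g.1 u + u) ≠ p := fun h => hne.1 (add_eq_left.1 h)
    have e'' : p + (g.1 u + u) ≠ 0 := fun h => hne.2 (by
      rw [show g.1 u + u = p + (p + (g.1 u + u)) by rw [add_cancel6], h, add_zero])
    simp [S, hp.1, Ne.symm hp.1, hne.1, Ne.symm hne.1, hne.2, Ne.symm hne.2, e, Ne.symm e, e', Ne.symm e', e'',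
      Ne.symm e'']
  have hall : ∀ x, g.1 x + x ∈ S := by
    intro x
    have hsub : (S : Set V6) ⊆ (LinearMap.range φ : Set V6) := by
      intro y hy
      have hpm : p ∈ LinearMap.range φ := ⟨v₀, by rw [hap, hv₀]⟩
      have hum : g.1 u + u ∈ LinearMap.range φ := ⟨u, hap u⟩
      simp only [S, Finset.coe_insert, Finset.coe_singleton, Set.mem_insert_iff, Set.mem_singleton_iff] at hy
      rcases hy with rfl | rfl | rfl | rfl
      exacts [zero_mem _, hpm, hum, add_mem hpm hum]
    have heq : (S : Set V6) = (LinearMap.range φ : Set V6) :=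
      Set.eq_of_subset_of_ncard_le hsub (by
        rw [Set.ncard_coe_finset, hS, ← Nat.card_coe_set_eq]; exact hcard.le)
    exact Finset.mem_coe.1 (heq ▸ (⟨x, hap x⟩ : g.1 x + x ∈ (LinearMap.range φ : Set V6)))
  refine hp.1 (pb_nondeg fun x => ?_)
  rw [← hv₀, hadj]
  have := hall x
  simp only [S, Finset.mem_insert, Finset.mem_singleton] at this
  rcases this with e | e | e | e <;> rw [e]
  · exact pb_zero_right v₀
  · exact hv₀p
  · exact hv₀w
  · rw [pb_add_right, hv₀p, hv₀w, add_zero]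

end CfsgLib.SuzType
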