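import Mathlib
import Cfsg.Agent.Lib.SuzType.Form

/-!
An involution with extraspecial `O₂` of order 128 in its centralizer, the quotient acting as the index
two subgroup of the isometry group; two such involutions each in the subgroup of the other.
-/

set_option autoImplicit false
set_option linter.style.haveILetI false

namespace CfsgLib.SuzType

open Subgroup CfsgLib.Classical

variable {G : Type*} [Group G] [Finite G]

/-- `z` to the power of a bit. -/
def zb (z : G) (c : ZMod 2) : G := if c = 0 then 1 else z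

omit [Finite G] in
theorem zb_zero (z : G) : zb z 0 = 1 := if_pos rfl

omit [Finite G] in
theorem zb_one (z : G) : zb z 1 = z := if_neg one_ne_zero

omit [Finite G] in
theorem zb_mul {z : G} (hz : z * z = 1) (a b : ZMod 2) : zb z a * zb z b = zb z (a + b) := by
  rcases two_cases a with rfl | rfl <;> rcases two_cases b with rfl | rfl
  · simp [zb_zero]
  · simp [zb_zero]
  · simp [zb_zero]
  · rw [zb_one, hz, show (1 : ZMod 2) + 1 = 0 by decide, zb_zero]

/-- The working hypotheses at one involution. -/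
structure Setup (z : G) (Q : Subgroup G) (π : G → V6) (ρ : G → qAut qm) : Prop where
  z2 : z * z = 1
  z1 : z ≠ 1
  le : Q ≤ centralizer ({z} : Set G)
  zQ : z ∈ Q
  card : Nat.card Q = 128
  norm : centralizer ({z} : Set G) ≤ normalizer (Q : Set G)
  pi_mul : ∀ a ∈ Q, ∀ b ∈ Q, π (a * b) = π a + π b
  pi_surj : ∀ v, ∃ a ∈ Q, π a = v
  pi_ker : ∀ a ∈ Q, (π a = 0 ↔ a = 1 ∨ a = z)
  sq : ∀ a ∈ Q, a * a = zb z (qm (π a))
  rho_mul : ∀ a ∈ centralizer ({z} : Set G), ∀ b ∈ centralizer ({z} : Set G), ρ (a * b) = ρ a * ρ b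
  rho_pi : ∀ c ∈ centralizer ({z} : Set G), ∀ a ∈ Q, π (c * a * c⁻¹) = (ρ c).1 (π a)
  rho_ker : ∀ c ∈ centralizer ({z} : Set G), (ρ c = 1 ↔ c ∈ Q)
  rho_range : ∀ g, g ∈ Ev ↔ ∃ c ∈ centralizer ({z} : Set G), ρ c = g

namespace Setup

variable {z : G} {Q : Subgroup G} {π : G → V6} {ρ : G → qAut qm} (S : Setup z Q π ρ)

include S

theorem pi_one : π 1 = 0 := (S.pi_ker 1 (one_mem _)).2 (.inl rfl)

theorem pi_z : π z = 0 := (S.pi_ker z S.zQ).2 (.inr rfl)

theorem pi_inv {a : G} (ha : a ∈ Q) : π a⁻¹ = π a := by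
  have h := S.pi_mul _ (inv_mem ha) a ha
  rw [inv_mul_cancel, S.pi_one] at h
  exact CharTwo.add_eq_zero.1 (funext fun i => congrFun h.symm i)

theorem z_comm {a : G} (ha : a ∈ Q) : a * z = z * a := mem_centralizer_singleton_iff.1 (S.le ha)

theorem z_mem : z ∈ centralizer ({z} : Set G) := S.le S.zQ

theorem pi_zmul {a : G} (ha : a ∈ Q) : π (z * a) = π a := by rw [S.pi_mul z S.zQ a ha, S.pi_z, zero_add]

theorem pi_eq {a b : G} (ha : a ∈ Q) (hb : b ∈ Q) (h : π a = π b) : b = a ∨ b = z * a := by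
  have h1 : π (b * a⁻¹) = 0 := by rw [S.pi_mul b hb _ (inv_mem ha), S.pi_inv ha, h, add_self6]
  rcases (S.pi_ker _ (mul_mem hb (inv_mem ha))).1 h1 with e | e
  · exact .inl (mul_inv_eq_one.1 e)
  · exact .inr (eq_mul_of_mul_inv_eq e)

theorem zb_comm {a : G} (ha : a ∈ Q) (c : ZMod 2) : a * zb z c = zb z c * a := by
  rcases two_cases c with rfl | rfl
  · rw [zb_zero, mul_one, one_mul]
  · rw [zb_one, S.z_comm ha]

theorem comm {a b : G} (ha : a ∈ Q) (hb : b ∈ Q) : a * b = zb z (pb (π a) (π b)) * (b * a) := by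
  have h1 := S.sq a ha
  have h2 := S.sq b hb
  have h3 := S.sq (a * b) (mul_mem ha hb)
  rw [S.pi_mul a ha b hb, qm_add, ← zb_mul S.z2, ← zb_mul S.z2, ← h1, ← h2] at h3
  have key : (a * a) * (b * b) = a * b * (a * b) * zb z (pb (π a) (π b)) := by
    rw [h3, mul_assoc (a * a * (b * b)), zb_mul S.z2, CharTwo.add_self_eq_zero, zb_zero, mul_one]
  have e : a * b * (a * b) * zb z (pb (π a) (π b)) = a * (zb z (pb (π a) (π b)) * (b * a) * b) := by
    calc a * b * (a * b) * zb z (pb (π a) (π b)) = a * (b * a * b * zb z (pb (π a) (π b))) := by group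
      _ = a * (zb z (pb (π a) (π b)) * (b * a * b)) := by
        rw [S.zb_comm (mul_mem (mul_mem hb ha) hb)]
      _ = a * (zb z (pb (π a) (π b)) * (b * a) * b) := by group
  rw [e, show a * a * (b * b) = a * (a * b * b) by group] at key
  exact mul_right_cancel (mul_left_cancel key)

theorem commute_iff {a b : G} (ha : a ∈ Q) (hb : b ∈ Q) : a * b = b * a ↔ pb (π a) (π b) = 0 := by
  rw [S.comm ha hb]
  rcases two_cases (pb (π a) (π b)) with h | h <;> rw [h]
  · simp [zb_zero]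
  · simp [zb_one, S.z1]

theorem rho_one : ρ 1 = 1 := (S.rho_ker 1 (one_mem _)).2 (one_mem _)

theorem rho_inv {c : G} (hc : c ∈ centralizer ({z} : Set G)) : ρ c⁻¹ = (ρ c)⁻¹ :=
  eq_inv_of_mul_eq_one_left (by rw [← S.rho_mul _ (inv_mem hc) c hc, inv_mul_cancel, S.rho_one])

theorem rho_mem {c : G} (hc : c ∈ centralizer ({z} : Set G)) : ρ c ∈ Ev := (S.rho_range _).2 ⟨c, hc, rfl⟩

theorem conj_mem {c a : G} (hc : c ∈ centralizer ({z} : Set G)) (ha : a ∈ Q) : c * a * c⁻¹ ∈ Q :=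
  (mem_normalizer_iff.1 (S.norm hc) a).1 ha

theorem rho_Q {a : G} (ha : a ∈ Q) : ρ a = 1 := (S.rho_ker a (S.le ha)).2 ha

/-- The setting at a conjugate. -/
theorem conj (g : G) : Setup (g * z * g⁻¹) (Q.map (MulAut.conj g).toMonoidHom) (fun x => π (g⁻¹ * x * g))
    (fun x => ρ (g⁻¹ * x * g)) := by
  have hmem : ∀ x, x ∈ Q.map (MulAut.conj g).toMonoidHom ↔ g⁻¹ * x * g ∈ Q := fun x =>
    ⟨fun ⟨w, hw, hwx⟩ => by rw [← hwx]; simpa [mul_assoc] using hw, fun h => ⟨_, h, by simp [mul_assoc]⟩⟩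
  have hC : ∀ x, x ∈ centralizer ({g * z * g⁻¹} : Set G) ↔ g⁻¹ * x * g ∈ centralizer ({z} : Set G) := fun x => by
    rw [mem_centralizer_singleton_iff, mem_centralizer_singleton_iff]
    constructor
    · intro h
      calc g⁻¹ * x * g * z = g⁻¹ * (x * (g * z * g⁻¹)) * g := by group
        _ = z * (g⁻¹ * x * g) := by rw [h]; group
    · intro h
      calc x * (g * z * g⁻¹) = g * (g⁻¹ * x * g * z) * g⁻¹ := by group
        _ = g * z * g⁻¹ * x := by rw [h]; group
  have hzb : ∀ c, g * zb z c * g⁻¹ = zb (g * z * g⁻¹) c := fun c => by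
    rcases two_cases c with rfl | rfl
    · simp [zb_zero]
    · simp [zb_one]
  refine ⟨?_, fun h => S.z1 (conj_eq_one_iff.1 h), fun x hx => (hC x).2 (S.le ((hmem x).1 hx)),
    (hmem _).2 (by simpa [mul_assoc] using S.zQ), ?_, fun x hx => ?_, fun a ha b hb => ?_, fun v => ?_,
    fun a ha => ?_, fun a ha => ?_, fun a ha b hb => ?_, fun c hc a ha => ?_, fun c hc => ?_, fun h => ?_⟩
  · calc g * z * g⁻¹ * (g * z * g⁻¹) = g * (z * z) * g⁻¹ := by group
      _ = 1 := by rw [S.z2]; group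
  · rw [card_map_of_injective (MulEquiv.injective _), S.card]
  · rw [mem_normalizer_iff]
    intro y
    rw [hmem, hmem, mem_normalizer_iff.1 (S.norm ((hC x).1 hx))]
    simp [mul_assoc]
  · rw [← S.pi_mul _ ((hmem a).1 ha) _ ((hmem b).1 hb)]
    simp [mul_assoc]
  · obtain ⟨a, ha, rfl⟩ := S.pi_surj v
    exact ⟨g * a * g⁻¹, (hmem _).2 (by simpa [mul_assoc] using ha), by simp [mul_assoc]⟩
  · rw [S.pi_ker _ ((hmem a).1 ha)]
    constructor
    · rintro (h | h)
      · exact .inl (by rw [show a = g * (g⁻¹ * a * g) * g⁻¹ by group, h]; group)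
      · exact .inr (by rw [← h]; group)
    · rintro (rfl | rfl)
      · exact .inl (by group)
      · exact .inr (by group)
  · rw [← hzb, ← S.sq _ ((hmem a).1 ha)]
    group
  · rw [← S.rho_mul _ ((hC a).1 ha) _ ((hC b).1 hb)]
    simp [mul_assoc]
  · rw [← S.rho_pi _ ((hC c).1 hc) _ ((hmem a).1 ha)]
    congr 1
    group
  · rw [S.rho_ker _ ((hC c).1 hc), hmem]
  · rw [S.rho_range h]
    exact ⟨fun ⟨c, hc, e⟩ => ⟨g * c * g⁻¹, (hC _).2 (by simpa [mul_assoc] using hc), by simpa [mul_assoc] using e⟩,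
      fun ⟨c, hc, e⟩ => ⟨_, (hC c).1 hc, e⟩⟩

end Setup

/-- Two involutions, each in the extraspecial subgroup of the other. -/
structure Pair (z t : G) (Q R : Subgroup G) (π π' : G → V6) (ρ ρ' : G → qAut qm) : Prop where
  S : Setup z Q π ρ
  S' : Setup t R π' ρ'
  tQ : t ∈ Q
  zR : z ∈ R
  ne : t ≠ z

namespace Pair

variable {z t : G} {Q R : Subgroup G} {π π' : G → V6} {ρ ρ' : G → qAut qm}
  (P : Pair z t Q R π π' ρ ρ')

include P

theorem symm : Pair t z R Q π' π ρ' ρ := ⟨P.S', P.S, P.zR, P.tQ, P.ne.symm⟩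

theorem zt_comm : z * t = t * z := (P.S.z_comm P.tQ).symm

theorem p_sing : Sing (π t) := by
  refine ⟨fun h => ((P.S.pi_ker t P.tQ).1 h).elim P.S'.z1 P.ne, ?_⟩
  have h := P.S.sq t P.tQ
  rw [P.S'.z2] at h
  rcases two_cases (qm (π t)) with e | e
  · exact e
  · rw [e, zb_one] at h; exact absurd h.symm P.S.z1

theorem mem_A {a : G} (ha : a ∈ Q) : a ∈ centralizer ({t} : Set G) ↔ pb (π t) (π a) = 0 := by
  rw [mem_centralizer_singleton_iff, P.S.commute_iff ha P.tQ, pb_comm]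

theorem perp {a : G} (ha : a ∈ Q) (h : a * t = t * a) : pb (π t) (π a) = 0 :=
  (P.mem_A ha).1 (mem_centralizer_singleton_iff.2 h)

theorem R_z {b : G} (hb : b ∈ R) (h : b * z = z * b) :
    b ∈ centralizer ({z} : Set G) ∧ b ∈ centralizer ({t} : Set G) :=
  ⟨mem_centralizer_singleton_iff.2 h, P.S'.le hb⟩

theorem rho_p {c : G} (hc : c ∈ centralizer ({z} : Set G)) (h : c ∈ centralizer ({t} : Set G)) :
    (ρ c).1 (π t) = π t := by
  rw [← P.S.rho_pi c hc t P.tQ, mem_centralizer_singleton_iff.1 h, mul_inv_cancel_right]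

theorem exists_swap : ∃ q ∈ Q, pb (π t) (π q) = 1 ∧ q * t * q⁻¹ = z * t := by
  obtain ⟨y, hy⟩ := fact_y P.p_sing
  obtain ⟨q, hq, rfl⟩ := P.S.pi_surj y
  refine ⟨q, hq, hy, ?_⟩
  rw [P.S.comm hq P.tQ, pb_comm, hy, zb_one]
  group

theorem exists_lift {g : qAut qm} (hg : g ∈ Ev) (hp : g.1 (π t) = π t) :
    ∃ c, c ∈ centralizer ({z} : Set G) ∧ c ∈ centralizer ({t} : Set G) ∧ ρ c = g := by
  obtain ⟨c, hc, rfl⟩ := (P.S.rho_range g).1 hg
  rw [← P.S.rho_pi c hc t P.tQ] at hp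
  rcases P.S.pi_eq P.tQ (P.S.conj_mem hc P.tQ) hp.symm with e | e
  · exact ⟨c, hc, mem_centralizer_singleton_iff.2 (mul_inv_eq_iff_eq_mul.1 e), rfl⟩
  · obtain ⟨q, hq, -, hqt⟩ := P.exists_swap
    refine ⟨q * c, mul_mem (P.S.le hq) hc, mem_centralizer_singleton_iff.2 (mul_inv_eq_iff_eq_mul.1 ?_), ?_⟩
    · calc q * c * t * (q * c)⁻¹ = q * (c * t * c⁻¹) * q⁻¹ := by group
        _ = q * z * q⁻¹ * (q * t * q⁻¹) := by rw [e]; group
        _ = t := by rw [hqt, P.S.z_comm hq, mul_inv_cancel_right, ← mul_assoc, P.S.z2, one_mul]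
    · rw [P.S.rho_mul q (P.S.le hq) c hc, P.S.rho_Q hq, one_mul]

theorem E_sq {a : G} (ha : a ∈ Q) (ha' : a ∈ R) : a * a = 1 := by
  have h1 := P.S.sq a ha
  have h2 := P.S'.sq a ha'
  rcases two_cases (qm (π a)) with e | e
  · rw [h1, e, zb_zero]
  · rcases two_cases (qm (π' a)) with e' | e'
    · rw [h2, e', zb_zero]
    · rw [h1, e, zb_one, e', zb_one] at h2; exact absurd h2.symm P.ne

theorem E_comm {a b : G} (ha : a ∈ Q) (ha' : a ∈ R) (hb : b ∈ Q) (hb' : b ∈ R) : a * b = b * a := by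
  have h : (a * b) * (a * b) = 1 := P.E_sq (mul_mem ha hb) (mul_mem ha' hb')
  have i1 : a⁻¹ = a := inv_eq_of_mul_eq_one_right (P.E_sq ha ha')
  have i2 : b⁻¹ = b := inv_eq_of_mul_eq_one_right (P.E_sq hb hb')
  conv_lhs => rw [eq_inv_of_mul_eq_one_left h]
  rw [mul_inv_rev, i1, i2]

/-- The intersection. -/
theorem E_cases {a : G} (ha : a ∈ Q) (ha' : a ∈ R) : a = 1 ∨ a = z ∨ a = t ∨ a = z * t := by
  have hpm : Pm (π t) (π a) := by
    by_contra hn
    have hz : a * z = z * a := P.S.z_comm ha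
    have ht : a * t = t * a := P.S'.z_comm ha'
    have hs : SVec (π t) (π a) := by
      refine ⟨?_, P.perp ha ht, hn⟩
      have h := P.S.sq a ha
      rw [P.E_sq ha ha'] at h
      rcases two_cases (qm (π a)) with e | e
      · exact e
      · rw [e, zb_one] at h; exact absurd h.symm P.S.z1
    -- every singular class lies in the image
    have hall : ∀ s, SVec (π t) s → pb (π a) s = 0 := by
      intro s hs'
      obtain ⟨g, hg, gp, gs⟩ := ev_svec P.p_sing hs hs'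
      obtain ⟨c, hc, hct, rfl⟩ := P.exists_lift hg gp
      have h1 := (P.S.commute_iff ha (P.S.conj_mem hc ha)).1
        (P.E_comm ha ha' (P.S.conj_mem hc ha) (P.S'.conj_mem hct ha'))
      rw [P.S.rho_pi c hc a ha, pb_comm, pm_polar gs hs.2.1, pb_comm] at h1
      exact h1
    obtain ⟨s, hs0⟩ := fact_S P.p_sing
    obtain ⟨n, hn', -⟩ := fact_1 P.p_sing hs0
    obtain ⟨u, hu, huv⟩ := fact_10 P.p_sing hn'
    obtain ⟨x, y, hx, hy, -, -, -, -, hxy, -⟩ := fact_11 P.p_sing hn' hu huv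
    rcases fact_7 P.p_sing hs hx.1 hx.2.1 (hall x hx) with e | e
    · exact hx.2.2 e
    · rw [pm_polar e hy.2.1, hall y hy] at hxy
      exact zero_ne_one hxy
  rcases hpm with e | e
  · rcases (P.S.pi_ker a ha).1 e with h | h
    · exact .inl h
    · exact .inr (.inl h)
  · rcases P.S.pi_eq P.tQ ha e.symm with h | h
    · exact .inr (.inr (.inl h))
    · exact .inr (.inr (.inr h))

theorem E_comm_z {a : G} (ha : a ∈ Q) : a * z = z * a := P.S.z_comm ha

theorem E_central {e x : G} (he : e ∈ Q) (he' : e ∈ R) (hz : x * z = z * x) (ht : x * t = t * x) :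
    x * e = e * x := by
  rcases P.E_cases he he' with rfl | rfl | rfl | rfl
  · rw [mul_one, one_mul]
  · exact hz
  · exact ht
  · rw [← mul_assoc, hz, mul_assoc, ht, mul_assoc]

theorem E_ext {a b : G} (ha : a ∈ Q) (ha' : a ∈ R) (hb : b ∈ Q) (hb' : b ∈ R) (h : π a = π b) (h' : π' a = π' b) :
    a = b := by
  rcases P.S.pi_eq ha hb h with e | e
  · exact e.symm
  · exfalso
    rw [e, P.S'.pi_mul z P.zR a ha', right_eq_add] at h'
    rcases (P.S'.pi_ker z P.zR).1 h' with e' | e'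
    · exact P.S.z1 e'
    · exact P.ne e'.symm

theorem card_A : Nat.card ↥(Q ⊓ centralizer ({t} : Set G)) = 64 := by
  let ψ : Q →* Multiplicative (ZMod 2) :=
    MonoidHom.mk' (fun a => Multiplicative.ofAdd (pb (π t) (π (a : G)))) fun a b => by
      rw [coe_mul, P.S.pi_mul a a.2 b b.2, pb_add_right, ofAdd_add]
  have hsurj : Function.Surjective ψ := by
    intro x
    rcases two_cases x.toAdd with h | h
    · exact ⟨1, by rw [map_one]; exact (congrArg Multiplicative.ofAdd h).symm⟩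
    · obtain ⟨q, hq, hq1, -⟩ := P.exists_swap
      exact ⟨⟨q, hq⟩, (congrArg Multiplicative.ofAdd hq1).trans (congrArg Multiplicative.ofAdd h).symm⟩
  have hker : (centralizer ({t} : Set G)).subgroupOf Q = ψ.ker := by
    ext a
    rw [mem_subgroupOf, P.mem_A a.2, MonoidHom.mem_ker]
    exact ⟨fun h => congrArg Multiplicative.ofAdd h, fun h => congrArg Multiplicative.toAdd h⟩
  have h := card_mul_index ψ.ker
  rw [index_ker, MonoidHom.range_eq_top.2 hsurj, card_top, P.S.card,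
    show Nat.card (Multiplicative (ZMod 2)) = 2 from Nat.card_zmod 2] at h
  have h' : Nat.card ψ.ker = Nat.card ↥(Q ⊓ centralizer ({t} : Set G)) := by
    rw [← hker, Nat.card_congr (((centralizer ({t} : Set G)).subgroupOf Q).equivMapOfInjective Q.subtype
      Q.subtype_injective).toEquiv,
      subgroupOf_map_subtype, inf_comm]
  omega

/-! ### The pairing -/

/-- The vector of an element centralizing `z`, `t`. -/
theorem inT {b : G} (hb : b ∈ R) (h : b * z = z * b) : InT (π t) (ρ b) := by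
  obtain ⟨hbz, hbt⟩ := P.R_z hb h
  refine ⟨P.rho_p hbz hbt, fun x hx => ?_⟩
  obtain ⟨a, ha, rfl⟩ := P.S.pi_surj x
  have hat := (P.mem_A ha).2 hx
  have e1 : b * a * b⁻¹ * a⁻¹ ∈ Q := mul_mem (P.S.conj_mem hbz ha) (inv_mem ha)
  have e2 : b * a * b⁻¹ * a⁻¹ ∈ R := by
    rw [show b * a * b⁻¹ * a⁻¹ = b * (a * b⁻¹ * a⁻¹) by group]
    exact mul_mem hb (P.S'.conj_mem hat (inv_mem hb))
  rw [← P.S.rho_pi b hbz a ha, ← P.S.pi_inv ha, ← P.S.pi_mul _ (P.S.conj_mem hbz ha) _ (inv_mem ha)]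
  rcases P.E_cases e1 e2 with e | e | e | e <;> rw [e]
  · exact .inl P.S.pi_one
  · exact .inl P.S.pi_z
  · exact .inr rfl
  · exact .inr (P.S.pi_zmul P.tQ)

theorem commutator_mem {a b : G} (ha : a ∈ Q) (hat : a * t = t * a) (hb : b ∈ R) (hbz : b * z = z * b) :
    b * a * b⁻¹ * a⁻¹ ∈ Q ∧ b * a * b⁻¹ * a⁻¹ ∈ R := by
  obtain ⟨h1, h2⟩ := P.R_z hb hbz
  refine ⟨mul_mem (P.S.conj_mem h1 ha) (inv_mem ha), ?_⟩
  rw [show b * a * b⁻¹ * a⁻¹ = b * (a * b⁻¹ * a⁻¹) by group]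
  exact mul_mem hb (P.S'.conj_mem (mem_centralizer_singleton_iff.2 hat) (inv_mem hb))

theorem pi_commutator {a b : G} (ha : a ∈ Q) (hat : a * t = t * a) (hb : b ∈ R) (hbz : b * z = z * b) :
    π (b * a * b⁻¹ * a⁻¹) = pb (π a) (tv (π t) (ρ b)) • π t := by
  rw [P.S.pi_mul _ (P.S.conj_mem (P.R_z hb hbz).1 ha) _ (inv_mem ha), P.S.pi_inv ha,
    P.S.rho_pi b (P.R_z hb hbz).1 a ha]
  exact inT_apply P.p_sing (P.inT hb hbz) (P.perp ha hat)

theorem pi'_commutator {a b : G} (ha : a ∈ Q) (hat : a * t = t * a) (hb : b ∈ R) (hbz : b * z = z * b) :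
    π' (b * a * b⁻¹ * a⁻¹) = pb (π' b) (tv (π' z) (ρ' a)) • π' z := by
  rw [← P.S'.pi_inv (P.commutator_mem ha hat hb hbz).2, show (b * a * b⁻¹ * a⁻¹)⁻¹ = a * b * a⁻¹ * b⁻¹ by group]
  exact P.symm.pi_commutator hb hbz ha hat

end Pair

end CfsgLib.SuzType
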