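import Mathlib
import Cfsg.Agent.Lib.SuzType.Setup

/-!
The two halves of the radical of the four group: the commutator pairing and the two forms agree.
-/

set_option autoImplicit false
set_option linter.style.haveILetI false
set_option linter.unusedSectionVars false
set_option linter.unusedSimpArgs false

namespace CfsgLib.SuzType

open Subgroup CfsgLib.Classical

section

variable {p : V6} (hp : Sing p)

include hp

theorem smul_p_inj {c d : ZMod 2} (h : c • p = d • p) : c = d := by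
  rcases two_cases c with rfl | rfl <;> rcases two_cases d with rfl | rfl
  · rfl
  · rw [zero_smul, one_smul] at h; exact absurd h.symm hp.1
  · rw [zero_smul, one_smul] at h; exact absurd h hp.1
  · rfl

theorem pm_of_forall {v : V6} (h : ∀ x, pb p x = 0 → pb x v = 0) : Pm p v :=
  fact_perp hp fun y hy => by rw [pb_comm]; exact h y hy

theorem inT_mul {g h : qAut qm} (hg : InT p g) (hh : InT p h) :
    InT p (g * h) ∧ Pm p (tv p (g * h) + (tv p g + tv p h)) := by
  have key : ∀ x, pb p x = 0 → (g * h).1 x + x = pb x (tv p g + tv p h) • p := fun x hx => by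
    have e1 := inT_apply hp hh hx
    have e2 := inT_apply hp hg hx
    have e3 : g.1 (h.1 x + x) = pb x (tv p h) • p := by rw [e1, map_smul, hg.1]
    rw [qAut_mul_apply, pb_add_right, add_smul, ← e2, ← e3, map_add]
    funext i
    simp only [Pi.add_apply]
    exact (by decide : ∀ a b c : ZMod 2, a + b = c + b + (a + c)) _ _ _
  have hin : InT p (g * h) := by
    refine ⟨by rw [qAut_mul_apply, hh.1, hg.1], fun x hx => ?_⟩
    rw [key x hx]
    rcases two_cases (pb x (tv p g + tv p h)) with e | e <;> rw [e]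
    · exact .inl (zero_smul _ _)
    · exact .inr (one_smul _ _)
  refine ⟨hin, pm_of_forall hp fun x hx => ?_⟩
  rw [pb_add_right, ← smul_p_inj hp ((key x hx).symm.trans (inT_apply hp hin hx)), CharTwo.add_self_eq_zero]

theorem inT_eq {g h : qAut qm} (hg : InT p g) (hh : InT p h) (e : Pm p (tv p g + tv p h)) : g = h := by
  have h1 : g * h = 1 := by
    obtain ⟨h1, h2⟩ := inT_mul hp hg hh
    refine inT_trivial hp h1 ?_
    have := h2.add e
    rwa [add_assoc, add_self6, add_zero] at this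
  have h2 : h * h = 1 := by
    obtain ⟨h1, h2⟩ := inT_mul hp hh hh
    exact inT_trivial hp h1 (by rwa [add_self6, add_zero] at h2)
  exact mul_right_cancel (h1.trans h2.symm)

theorem inT_conj {g h : qAut qm} (hg : g.1 p = p) (hh : InT p h) :
    InT p (g * h * g⁻¹) ∧ Pm p (tv p (g * h * g⁻¹) + g.1 (tv p h)) := by
  have hgi : ∀ x, g.1 ((g⁻¹).1 x) = x := fun x => by rw [← qAut_mul_apply, mul_inv_cancel]; rfl
  have hip : (g⁻¹).1 p = p := by
    exact g.1.injective ((hgi p).trans hg.symm)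
  have key : ∀ x, pb p x = 0 → (g * h * g⁻¹).1 x + x = pb x (g.1 (tv p h)) • p := fun x hx => by
    obtain ⟨y, rfl⟩ : ∃ y, g.1 y = x := g.1.surjective x
    have hy : (g⁻¹).1 (g.1 y) = y := g.1.injective (hgi _)
    have hy' : pb p y = 0 := by rw [← hy]; exact perp_map hip hx
    rw [qAut_mul_apply, qAut_mul_apply, hy, ← map_add, inT_apply hp hh hy', map_smul, hg, pb_map]
  have hin : InT p (g * h * g⁻¹) := by
    refine ⟨by rw [qAut_mul_apply, qAut_mul_apply, hip, hh.1, hg], fun x hx => ?_⟩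
    rw [key x hx]
    rcases two_cases (pb x (g.1 (tv p h))) with e | e <;> rw [e]
    · exact .inl (zero_smul _ _)
    · exact .inr (one_smul _ _)
  refine ⟨hin, pm_of_forall hp fun x hx => ?_⟩
  rw [pb_add_right, ← smul_p_inj hp ((key x hx).symm.trans (inT_apply hp hin hx)), CharTwo.add_self_eq_zero]

end

variable {G : Type*} [Group G] [Finite G]

namespace Pair

variable {z t : G} {Q R : Subgroup G} {π π' : G → V6} {ρ ρ' : G → qAut qm}
  (P : Pair z t Q R π π' ρ ρ')

include P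

theorem w_mul {b b' : G} (hb : b ∈ R) (hbz : b * z = z * b) (hb' : b' ∈ R) (hbz' : b' * z = z * b') :
    Pm (π t) (tv (π t) (ρ (b * b')) + (tv (π t) (ρ b) + tv (π t) (ρ b'))) := by
  rw [P.S.rho_mul b (P.R_z hb hbz).1 b' (P.R_z hb' hbz').1]
  exact (inT_mul P.p_sing (P.inT hb hbz) (P.inT hb' hbz')).2

theorem w_conj {b c : G} (hb : b ∈ R) (hbz : b * z = z * b) (hc : c ∈ centralizer ({z} : Set G))
    (hct : c ∈ centralizer ({t} : Set G)) :
    Pm (π t) (tv (π t) (ρ (c * b * c⁻¹)) + (ρ c).1 (tv (π t) (ρ b))) := by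
  have hbC := (P.R_z hb hbz).1
  rw [P.S.rho_mul (c * b) (mul_mem hc hbC) c⁻¹ (inv_mem hc), P.S.rho_mul c hc b hbC, P.S.rho_inv hc]
  exact (inT_conj P.p_sing (P.rho_p hc hct) (P.inT hb hbz)).2

theorem w_eq {b b' : G} (hb : b ∈ R) (hbz : b * z = z * b) (hb' : b' ∈ R) (hbz' : b' * z = z * b')
    (h : Pm (π t) (tv (π t) (ρ b) + tv (π t) (ρ b'))) : b⁻¹ * b' ∈ Q := by
  have h1 := inT_eq P.p_sing (P.inT hb hbz) (P.inT hb' hbz') h
  have hC := (P.R_z hb hbz).1
  refine (P.S.rho_ker _ (mul_mem (inv_mem hC) (P.R_z hb' hbz').1)).1 ?_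
  rw [P.S.rho_mul _ (inv_mem hC) _ (P.R_z hb' hbz').1, P.S.rho_inv hC, h1, inv_mul_cancel]

theorem w_pm_iff {b : G} (hb : b ∈ R) (hbz : b * z = z * b) : Pm (π t) (tv (π t) (ρ b)) ↔ b ∈ Q := by
  constructor
  · intro h
    exact (P.S.rho_ker b (P.R_z hb hbz).1).1 (inT_trivial P.p_sing (P.inT hb hbz) h)
  · intro h
    rw [P.S.rho_Q h, tv_one]
    exact .inl rfl

theorem w_perp {b : G} (hb : b ∈ R) (hbz : b * z = z * b) : pb (π t) (tv (π t) (ρ b)) = 0 :=
  tv_perp P.p_sing (P.inT hb hbz)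

theorem mem_E_of_pm {a : G} (ha : a ∈ Q) (h : Pm (π t) (π a)) : a ∈ R := by
  rcases h with e | e
  · rcases (P.S.pi_ker a ha).1 e with rfl | rfl
    exacts [one_mem _, P.zR]
  · rcases P.S.pi_eq P.tQ ha e.symm with rfl | rfl
    exacts [P.S'.zQ, mul_mem P.zR P.S'.zQ]

/-- Every class of `p⊥` comes from the second half. -/
theorem w_surj {v : V6} (hv : pb (π t) v = 0) :
    ∃ b ∈ R, b * z = z * b ∧ Pm (π t) (tv (π t) (ρ b) + v) := by
  classical
  haveI := Fintype.ofFinite G
  let S : Finset (G × ZMod 2) := (Finset.univ.filter fun b => b ∈ R ⊓ centralizer ({z} : Set G)) ×ˢ Finset.univ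
  let f : G × ZMod 2 → V6 := fun x => tv (π t) (ρ x.1) + x.2 • π t
  let T : Finset V6 := Finset.univ.filter fun y => pb (π t) y = 0
  have hmem : ∀ x ∈ S, x.1 ∈ R ∧ x.1 * z = z * x.1 := fun x hx => by
    obtain ⟨h1, h2⟩ := mem_inf.1 (Finset.mem_filter.1 (Finset.mem_product.1 hx).1).2
    exact ⟨h1, mem_centralizer_singleton_iff.1 h2⟩
  have hsub : S.image f ⊆ T := by
    intro y hy
    obtain ⟨x, hx, rfl⟩ := Finset.mem_image.1 hy
    refine Finset.mem_filter.2 ⟨Finset.mem_univ _, ?_⟩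
    rw [pb_add_right, pb_smul_right, pb_self, mul_zero, add_zero]
    exact P.w_perp (hmem x hx).1 (hmem x hx).2
  have hfib : ∀ y ∈ S.image f, (S.filter fun x => f x = y).card ≤ 4 := by
    intro y hy
    obtain ⟨x₀, hx₀, rfl⟩ := Finset.mem_image.1 hy
    obtain ⟨h1, h2⟩ := hmem x₀ hx₀
    have hsub' : (S.filter fun x => f x = f x₀).image Prod.fst ⊆
        ({x₀.1, x₀.1 * z, x₀.1 * t, x₀.1 * (z * t)} : Finset G) := by
      intro b hb
      obtain ⟨x, hx, rfl⟩ := Finset.mem_image.1 hb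
      obtain ⟨hx, hfx⟩ := Finset.mem_filter.1 hx
      obtain ⟨g1, g2⟩ := hmem x hx
      have hpm : Pm (π t) (tv (π t) (ρ x₀.1) + tv (π t) (ρ x.1)) := by
        have h3 : (tv (π t) (ρ x₀.1) + tv (π t) (ρ x.1)) + (x₀.2 • π t + x.2 • π t) = 0 := by
          rw [add_add_add_comm]
          show f x₀ + f x = 0
          rw [hfx, add_self6]
        rw [CharTwo.add_eq_zero.1 (funext fun i => congrFun h3 i), ← add_smul]
        rcases two_cases (x₀.2 + x.2) with e | e <;> rw [e]
        · exact .inl (zero_smul _ _)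
        · exact .inr (one_smul _ _)
      have hE := P.w_eq h1 h2 g1 g2 hpm
      rcases P.E_cases hE (mul_mem (inv_mem h1) g1) with e | e | e | e <;>
        simp [inv_mul_eq_iff_eq_mul.1 e]
    have hinj : Set.InjOn Prod.fst (S.filter fun x => f x = f x₀ : Set (G × ZMod 2)) := by
      intro x hx x' hx' hxx
      have e : f x = f x' := (Finset.mem_filter.1 hx).2.trans (Finset.mem_filter.1 hx').2.symm
      simp only [f] at e
      rw [hxx, add_right_inj] at e
      exact Prod.ext hxx (smul_p_inj P.p_sing e)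
    calc (S.filter fun x => f x = f x₀).card = ((S.filter fun x => f x = f x₀).image Prod.fst).card :=
          (Finset.card_image_of_injOn hinj).symm
      _ ≤ ({x₀.1, x₀.1 * z, x₀.1 * t, x₀.1 * (z * t)} : Finset G).card := Finset.card_le_card hsub'
      _ ≤ 4 := Finset.card_le_four
  have hS : S.card = 128 := by
    rw [Finset.card_product, Finset.card_univ, ZMod.card, ← Fintype.card_subtype, ← Nat.card_eq_fintype_card,
      show Nat.card {b // b ∈ R ⊓ centralizer ({z} : Set G)} = 64 from P.symm.card_A]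
  have hT : T.card = 32 := by
    rw [← Fintype.card_subtype, ← Nat.card_eq_fintype_card]
    exact card_perp P.p_sing
  have hcount := Finset.card_le_mul_card_image S 4 hfib
  have heq : S.image f = T := Finset.eq_of_subset_of_card_le hsub (by omega)
  have hvT : v ∈ S.image f := by rw [heq]; exact Finset.mem_filter.2 ⟨Finset.mem_univ _, hv⟩
  obtain ⟨x, hx, hfx⟩ := Finset.mem_image.1 hvT
  refine ⟨x.1, (hmem x hx).1, (hmem x hx).2, ?_⟩
  rw [← hfx]
  show Pm (π t) (tv (π t) (ρ x.1) + (tv (π t) (ρ x.1) + x.2 • π t))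
  rw [add_cancel6]
  rcases two_cases x.2 with e | e <;> rw [e]
  · exact .inl (zero_smul _ _)
  · exact .inr (one_smul _ _)

theorem f_E {a e : G} (ha : a ∈ Q) (hat : a * t = t * a) (he : e ∈ Q) (he' : e ∈ R) :
    pb (π' e) (tv (π' z) (ρ' a)) = 0 := by
  have hp := P.symm.w_perp ha hat
  rcases P.E_cases he he' with rfl | rfl | rfl | rfl
  · rw [P.S'.pi_one, pb_zero_left]
  · exact hp
  · rw [P.S'.pi_z, pb_zero_left]
  · rw [P.S'.pi_mul z P.zR t P.S'.zQ, P.S'.pi_z, add_zero]; exact hp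

theorem eps_singular {a b : G} (ha : a ∈ Q) (hat : a * t = t * a) (hs : SVec (π t) (π a)) (hb : b ∈ R)
    (hbz : b * z = z * b) : pb (π' b) (tv (π' z) (ρ' a)) = pb (π a) (tv (π t) (ρ b)) := by
  set f : G → ZMod 2 := fun b => pb (π' b) (tv (π' z) (ρ' a)) with hf
  have fmul : ∀ b b', b ∈ R → b' ∈ R → f (b * b') = f b + f b' := fun b b' h h' => by
    rw [hf]; dsimp only; rw [P.S'.pi_mul b h b' h', pb_add_left]
  have fwd : ∀ b b', b ∈ R → b * z = z * b → b' ∈ R → b' * z = z * b' →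
      Pm (π t) (tv (π t) (ρ b) + tv (π t) (ρ b')) → f b' = f b := fun b b' h1 h2 h3 h4 hpm => by
    rw [show b' = b * (b⁻¹ * b') by group, fmul b _ h1 (mul_mem (inv_mem h1) h3),
      show f (b⁻¹ * b') = 0 from P.f_E ha hat (P.w_eq h1 h2 h3 h4 hpm) (mul_mem (inv_mem h1) h3), add_zero]
  have finv : ∀ c ∈ centralizer ({z} : Set G), c ∈ centralizer ({t} : Set G) →
      Pm (π t) ((ρ c).1 (π a) + π a) → ∀ b ∈ R, b * z = z * b → f (c * b * c⁻¹) = f b :=
      fun c hc hct hca b hbR hbzR => by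
    have hca' : c * a * c⁻¹ * t = t * (c * a * c⁻¹) := by
      have hcat : c * a * c⁻¹ ∈ centralizer ({t} : Set G) :=
        mul_mem (mul_mem hct (mem_centralizer_singleton_iff.2 hat)) (inv_mem hct)
      exact mem_centralizer_singleton_iff.1 hcat
    have he : a⁻¹ * (c * a * c⁻¹) ∈ R := by
      refine P.mem_E_of_pm (mul_mem (inv_mem ha) (P.S.conj_mem hc ha)) ?_
      rw [P.S.pi_mul _ (inv_mem ha) _ (P.S.conj_mem hc ha), P.S.pi_inv ha, P.S.rho_pi c hc a ha, add_comm]
      exact hca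
    have h1 : Pm (π' z) (tv (π' z) (ρ' (c * a * c⁻¹)) + (ρ' c).1 (tv (π' z) (ρ' a))) := P.symm.w_conj ha hat hct hc
    have h2 : Pm (π' z) (tv (π' z) (ρ' a) + tv (π' z) (ρ' (c * a * c⁻¹))) := by
      have e1 : a⁻¹ * (c * a * c⁻¹) * t = t * (a⁻¹ * (c * a * c⁻¹)) :=
        mem_centralizer_singleton_iff.1 (mul_mem (inv_mem (mem_centralizer_singleton_iff.2 hat))
          (mem_centralizer_singleton_iff.2 hca'))
      have e2 := P.symm.w_mul ha hat (mul_mem (inv_mem ha) (P.S.conj_mem hc ha)) e1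
      rw [mul_inv_cancel_left, P.S'.rho_Q he, tv_one, add_zero] at e2
      exact pm_symm e2
    have h3 := pm_trans h2 h1
    have hbz' : b * z = z * b := hbzR
    have hc' : c * b * c⁻¹ * z = z * (c * b * c⁻¹) :=
      mem_centralizer_singleton_iff.1 (mul_mem (mul_mem hc (mem_centralizer_singleton_iff.2 hbz')) (inv_mem hc))
    show pb (π' (c * b * c⁻¹)) _ = pb (π' b) _
    rw [pb_comm, pm_polar h3 (P.symm.perp (P.S'.conj_mem hct hbR) hc'), P.S'.rho_pi c hct b hbR, pb_comm, pb_map]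
  have fN : ∀ b, b ∈ R → b * z = z * b → NVec (π t) (tv (π t) (ρ b)) →
      pb (tv (π t) (ρ b)) (π a) = 0 → f b = 0 := fun b hb hbz hn hbs => by
    obtain ⟨x, b', hx, hxa, hb', hb's, hxb'⟩ := fact_4 P.p_sing hs hn hbs
    obtain ⟨y, hy, hyz, hyx⟩ := P.w_surj hx
    set g := rf (tv (π t) (ρ b)) hn.1 * rf b' hb'.1 with hg
    have gp : g.1 (π t) = π t := by rw [hg, qAut_mul_apply, rf_fix hb'.1 hb'.2, rf_fix hn.1 hn.2]
    have gs : g.1 (π a) = π a := by
      rw [hg, qAut_mul_apply, rf_fix hb'.1 (by rw [pb_comm, hb's]), rf_fix hn.1 (by rw [pb_comm, hbs])]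
    have gx : g.1 x = x + tv (π t) (ρ b) := by rw [hg, qAut_mul_apply, rf_fix hb'.1 hxb', rf_move hn.1 hxa]
    obtain ⟨c, hc, hct, hρc⟩ := P.exists_lift (rf_mul_mem hn.1 hb'.1) gp
    have hcy : c * y * c⁻¹ ∈ R := P.S'.conj_mem hct hy
    have hcyz : c * y * c⁻¹ * z = z * (c * y * c⁻¹) := mem_centralizer_singleton_iff.1
      (mul_mem (mul_mem hc (mem_centralizer_singleton_iff.2 hyz)) (inv_mem hc))
    have hyb : y * b * z = z * (y * b) := (Commute.mul_left (show Commute y z from hyz) hbz).eq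
    have e1 : Pm (π t) (tv (π t) (ρ (c * y * c⁻¹)) + tv (π t) (ρ (y * b))) := by
      have e2 := P.w_conj hy hyz hc hct
      rw [hρc] at e2
      have e3 := pm_map gp hyx
      rw [map_add, gx] at e3
      refine pm_trans (pm_trans e2 e3) (pm_trans ?_ (pm_symm (P.w_mul hy hyz hb hbz)))
      have := hyx
      rw [show x + tv (π t) (ρ b) + (tv (π t) (ρ y) + tv (π t) (ρ b)) = tv (π t) (ρ y) + x by
        rw [add_add_add_comm, add_self6, add_zero, add_comm]]
      exact this
    have h1 := fwd _ _ hcy hcyz (mul_mem hy hb) hyb e1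
    rw [fmul y b hy hb, finv c hc hct (by rw [hρc, gs]; exact pm_self _) y hy hyz, add_eq_left] at h1
    exact h1
  have f0 : ∀ b, b ∈ R → b * z = z * b → pb (π a) (tv (π t) (ρ b)) = 0 → f b = 0 := fun b hb hbz hbs => by
    rw [pb_comm] at hbs
    rcases two_cases (qm (tv (π t) (ρ b))) with e | e
    · rcases fact_7 P.p_sing hs e (P.w_perp hb hbz) (by rw [pb_comm, hbs]) with h | h
      · exact P.f_E ha hat ((P.w_pm_iff hb hbz).1 h) hb
      · obtain ⟨n, hn, hns⟩ := fact_1 P.p_sing hs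
        have hm : NVec (π t) (n + π a) :=
          ⟨by rw [qm_add, hn.1, hs.1, hns]; rfl, by rw [pb_add_right, hn.2, hs.2.1, add_zero]⟩
        obtain ⟨bn, hbn, hbnz, hbnw⟩ := P.w_surj hn.2
        obtain ⟨bm, hbm, hbmz, hbmw⟩ := P.w_surj hm.2
        have qn : NVec (π t) (tv (π t) (ρ bn)) :=
          ⟨(pm_quad P.p_sing hbnw hn.2).trans hn.1, P.w_perp hbn hbnz⟩
        have qm' : NVec (π t) (tv (π t) (ρ bm)) :=
          ⟨(pm_quad P.p_sing hbmw hm.2).trans hm.1, P.w_perp hbm hbmz⟩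
        have en : f bn = 0 := fN bn hbn hbnz qn (by rw [pm_polar hbnw hs.2.1, hns])
        have em : f bm = 0 := fN bm hbm hbmz qm'
          (by rw [pm_polar hbmw hs.2.1, pb_add_left, hns, pb_self, add_zero])
        have hz' : bn * bm * z = z * (bn * bm) := (Commute.mul_left (show Commute bn z from hbnz) hbmz).eq
        have e1 : Pm (π t) (tv (π t) (ρ (bn * bm)) + tv (π t) (ρ b)) := by
          refine pm_trans (P.w_mul hbn hbnz hbm hbmz) (pm_trans ?_ (pm_symm h))
          have := hbnw.add hbmw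
          rw [add_add_add_comm, add_cancel6] at this
          exact this
        rw [fwd _ _ (mul_mem hbn hbm) hz' hb hbz e1, fmul bn bm hbn hbm, en, em, add_zero]
    · exact fN b hb hbz ⟨e, P.w_perp hb hbz⟩ hbs
  show f b = _
  rcases two_cases (pb (π a) (tv (π t) (ρ b))) with h | h
  · rw [h, f0 b hb hbz h]
  · rw [h]
    by_contra hne
    have hfb : f b = 0 := (two_cases _).resolve_right hne
    have hall : ∀ r, r ∈ R → r * z = z * r → f r = 0 := fun r hr hrz => by
      rcases two_cases (pb (π a) (tv (π t) (ρ r))) with h' | h'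
      · exact f0 r hr hrz h'
      · have := f0 (r * b) (mul_mem hr hb) (Commute.mul_left (show Commute r z from hrz) hbz).eq (by
          rw [pb_comm, pm_polar (P.w_mul hr hrz hb hbz) hs.2.1, pb_add_left, pb_comm, h', pb_comm, h]
          rfl)
        rwa [fmul r b hr hb, hfb, add_zero] at this
    have hw : Pm (π' z) (tv (π' z) (ρ' a)) := pm_of_forall P.symm.p_sing fun y hy => by
      obtain ⟨r, hr, rfl⟩ := P.S'.pi_surj y
      exact hall r hr (mem_centralizer_singleton_iff.1 ((P.symm.mem_A hr).2 hy))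
    have haR := (P.symm.w_pm_iff ha hat).1 hw
    rcases P.E_cases ha haR with e | e | e | e <;> apply hs.2.2 <;> rw [e]
    · exact .inl P.S.pi_one
    · exact .inl P.S.pi_z
    · exact .inr rfl
    · exact .inr (P.S.pi_zmul P.tQ)

/-- The two components of the commutator pairing agree. -/
theorem eps_eq {a b : G} (ha : a ∈ Q) (hat : a * t = t * a) (hb : b ∈ R) (hbz : b * z = z * b) :
    pb (π' b) (tv (π' z) (ρ' a)) = pb (π a) (tv (π t) (ρ b)) := by
  by_cases hpm : Pm (π t) (π a)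
  · have haR := P.mem_E_of_pm ha hpm
    rw [P.S'.rho_Q haR, tv_one, pb_zero_right, hpm.polar (P.w_perp hb hbz)]
  rcases two_cases (qm (π a)) with e | e
  · exact P.eps_singular ha hat ⟨e, P.perp ha hat, hpm⟩ hb hbz
  · have hv : NVec (π t) (π a) := ⟨e, P.perp ha hat⟩
    obtain ⟨u, hu, huv⟩ := fact_10 P.p_sing hv
    obtain ⟨x, y, hx, hy, xu, xv, yu, yv, hxy, -⟩ := fact_11 P.p_sing hv hu huv
    have hs_perp : pb (π t) (u + (x + y)) = 0 := by
      rw [pb_add_right, pb_add_right, hu.2, hx.2.1, hy.2.1, add_zero, add_zero]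
    have hvs : pb (π a) (u + (x + y)) = 1 := by
      rw [pb_add_right, pb_add_right, pb_comm, huv, pb_comm, xv, pb_comm, yv, add_zero, add_zero]
    have hsq : qm (u + (x + y)) = 0 := by
      rw [qm_add, qm_add, hu.1, hx.1, hy.1, hxy, pb_add_right, pb_comm u x, xu, pb_comm u y, yu]; decide
    obtain ⟨a1, ha1, hπ1⟩ := P.S.pi_surj (u + (x + y))
    have hat1 : a1 * t = t * a1 := mem_centralizer_singleton_iff.1 ((P.mem_A ha1).2 (hπ1 ▸ hs_perp))
    have hS1 : SVec (π t) (π a1) := by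
      refine ⟨hπ1 ▸ hsq, P.perp ha1 hat1, fun h => ?_⟩
      have := h.polar hv.2
      rw [hπ1, pb_comm, hvs] at this
      exact one_ne_zero this
    have hπ2 : π (a * a1) = π a + π a1 := P.S.pi_mul a ha a1 ha1
    have hat2 : a * a1 * t = t * (a * a1) := (Commute.mul_left (show Commute a t from hat) hat1).eq
    have hS2 : SVec (π t) (π (a * a1)) := by
      refine ⟨by rw [hπ2, qm_add, hπ1, e, hsq, hvs]; decide, P.perp (mul_mem ha ha1) hat2, fun h => ?_⟩
      have := h.polar hu.2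
      rw [hπ2, hπ1, pb_add_left, pb_add_left, pb_comm, huv, pb_self, pb_add_left, xu, yu, add_zero, add_zero,
        add_zero] at this
      exact one_ne_zero this
    have h1 := P.eps_singular ha1 hat1 hS1 hb hbz
    have h2 := P.eps_singular (mul_mem ha ha1) hat2 hS2 hb hbz
    rw [pb_comm (π' b), pm_polar (P.symm.w_mul ha hat ha1 hat1) (P.symm.perp hb hbz), pb_add_left,
      pb_comm, pb_comm _ (π' b), h1, hπ2, pb_add_left] at h2
    exact add_right_cancel h2

/-- The two forms agree. -/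
theorem quad_eq {b : G} (hb : b ∈ R) (hbz : b * z = z * b) : qm (tv (π t) (ρ b)) = qm (π' b) := by
  have hperp : ∀ r, r ∈ R → r * z = z * r → pb (π' z) (π' r) = 0 := fun r hr hrz => P.symm.perp hr hrz
  have hQ : ∀ r, r ∈ R → r * z = z * r → Pm (π' z) (π' r) → r ∈ Q := fun r hr _ h => P.symm.mem_E_of_pm hr h
  -- transport along lifts
  have trans : ∀ b b', b ∈ R → b * z = z * b → b' ∈ R → b' * z = z * b' → ∀ g ∈ Ev, g.1 (π t) = π t →
      Pm (π t) (g.1 (tv (π t) (ρ b)) + tv (π t) (ρ b')) → qm (π' b') = qm (π' b) := by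
    intro b b' h1 h2 h3 h4 g hg gp gv
    obtain ⟨c, hc, hct, hρ⟩ := P.exists_lift hg gp
    have hcb : c * b * c⁻¹ ∈ R := P.S'.conj_mem hct h1
    have hcbz : c * b * c⁻¹ * z = z * (c * b * c⁻¹) := mem_centralizer_singleton_iff.1
      (mul_mem (mul_mem hc (mem_centralizer_singleton_iff.2 h2)) (inv_mem hc))
    have e1 := P.w_conj h1 h2 hc hct
    rw [hρ] at e1
    have hE := P.w_eq hcb hcbz h3 h4 (pm_trans e1 gv)
    have hE' : (c * b * c⁻¹)⁻¹ * b' ∈ R := mul_mem (inv_mem hcb) h3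
    have hpm : Pm (π' z) (π' (c * b * c⁻¹) + π' b') := by
      rw [← P.S'.pi_inv hcb, ← P.S'.pi_mul _ (inv_mem hcb) _ h3]
      rcases P.E_cases hE hE' with e | e | e | e <;> rw [e]
      · exact .inl P.S'.pi_one
      · exact .inr rfl
      · exact .inl P.S'.pi_z
      · rw [P.zt_comm]; exact .inr (P.S'.pi_zmul P.zR)
    rw [← pm_quad P.symm.p_sing hpm (hperp b' h3 h4), P.S'.rho_pi c hct b h1]
    exact qAut_map _ _
  have alpha : ∀ b, b ∈ R → b * z = z * b → NVec (π t) (tv (π t) (ρ b)) → qm (π' b) = 1 := by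
    intro b hb hbz hn
    by_contra hne
    have h0 := (two_cases _).resolve_right hne
    have hall : ∀ r, r ∈ R → r * z = z * r → NVec (π t) (tv (π t) (ρ r)) → SVec (π' z) (π' r) := by
      intro r hr hrz hr'
      obtain ⟨g, hg, gp, gv⟩ := ev_nvec P.p_sing hn hr'
      refine ⟨by rw [trans b r hb hbz hr hrz g hg gp gv, h0], hperp r hr hrz, fun h => ?_⟩
      have h1 := ((P.w_pm_iff hr hrz).2 (hQ r hr hrz h)).polar hr'.2
      obtain ⟨u, hu, huv⟩ := fact_10 P.p_sing hr'
      have := ((P.w_pm_iff hr hrz).2 (hQ r hr hrz h)).polar hu.2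
      rw [pb_comm, huv] at this
      exact one_ne_zero this
    obtain ⟨u, hu, huv⟩ := fact_10 P.p_sing hn
    obtain ⟨r, hr, hrz, hru⟩ := P.w_surj hu.2
    have hru' : NVec (π t) (tv (π t) (ρ r)) := ⟨(pm_quad P.p_sing hru hu.2).trans hu.1, P.w_perp hr hrz⟩
    have hbr : b * r * z = z * (b * r) := (Commute.mul_left (show Commute b z from hbz) hrz).eq
    have hpbru : pb (tv (π t) (ρ b)) (tv (π t) (ρ r)) = 1 := by
      rw [pb_comm, pm_polar hru hn.2, huv]
    have hbr' : NVec (π t) (tv (π t) (ρ (b * r))) := by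
      refine ⟨?_, P.w_perp (mul_mem hb hr) hbr⟩
      rw [pm_quad P.p_sing (P.w_mul hb hbz hr hrz) (by rw [pb_add_right, hn.2, hru'.2, add_zero]), qm_add, hn.1,
        hru'.1, hpbru]
      decide
    have s1 := hall b hb hbz hn
    have s2 := hall r hr hrz hru'
    have s3 := hall _ (mul_mem hb hr) hbr hbr'
    have h3 := s3.1
    rw [P.S'.pi_mul b hb r hr, qm_add, s1.1, s2.1, zero_add, zero_add] at h3
    rcases fact_7 P.symm.p_sing s1 s2.1 s2.2.1 h3 with e | e
    · exact s2.2.2 e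
    · refine s3.2.2 ?_
      rw [P.S'.pi_mul b hb r hr, add_comm]
      exact e
  rcases two_cases (qm (tv (π t) (ρ b))) with e | e
  · rw [e]
    by_contra hne
    have h1 := (two_cases _).resolve_left (Ne.symm hne)
    have hns : ¬ Pm (π t) (tv (π t) (ρ b)) := fun h => by
      have hbQ := (P.w_pm_iff hb hbz).1 h
      have h2 := P.S'.sq b hb
      rw [P.E_sq hbQ hb, h1, zb_one] at h2
      exact P.S'.z1 h2.symm
    obtain ⟨s, hs⟩ := fact_S P.symm.p_sing
    obtain ⟨r, hr, rfl⟩ := P.S'.pi_surj s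
    have hrz : r * z = z * r := mem_centralizer_singleton_iff.1 ((P.symm.mem_A hr).2 hs.2.1)
    have hnr : ¬ Pm (π t) (tv (π t) (ρ r)) := fun h => by
      rcases P.E_cases ((P.w_pm_iff hr hrz).1 h) hr with e | e | e | e <;> apply hs.2.2 <;> rw [e]
      · exact .inl P.S'.pi_one
      · exact .inr rfl
      · exact .inl P.S'.pi_z
      · rw [P.zt_comm]; exact .inr (P.S'.pi_zmul P.zR)
    rcases two_cases (qm (tv (π t) (ρ r))) with e' | e'
    · obtain ⟨g, hg, gp, gv⟩ := ev_svec P.p_sing (s := tv (π t) (ρ b)) ⟨e, P.w_perp hb hbz, hns⟩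
        (t := tv (π t) (ρ r)) ⟨e', P.w_perp hr hrz, hnr⟩
      have := trans b r hb hbz hr hrz g hg gp gv
      rw [hs.1, h1] at this
      exact zero_ne_one this
    · have := alpha r hr hrz ⟨e', P.w_perp hr hrz⟩
      rw [hs.1] at this
      exact zero_ne_one this
  · rw [e, alpha b hb hbz ⟨e, P.w_perp hb hbz⟩]

end Pair

end CfsgLib.SuzType
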