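import Mathlib
import Cfsg.Agent.Lib.SuzType.Pairing
import Cfsg.Agent.Lib.Transfer.Fusion

/-!
The involutions of the centralizer: at most two classes.
-/

set_option autoImplicit false
set_option linter.style.haveILetI false
set_option linter.unusedSectionVars false
set_option linter.unusedSimpArgs false

namespace CfsgLib.SuzType

open Subgroup CfsgLib.Classical

variable {G : Type*} [Group G] [Finite G]

theorem isConj_conj_self {H : Type*} [Group H] (g x : H) : IsConj x (g * x * g⁻¹) := isConj_iff.2 ⟨g, rfl⟩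

/-- The representatives of the second class, in the frame of a pair. -/
def TypeOne (z t : G) (Q R : Subgroup G) (π π' : G → V6) (x : G) : Prop :=
  ∃ a b, a ∈ Q ∧ a * t = t * a ∧ b ∈ R ∧ b * z = z * b ∧ b ∉ Q ∧ x = a * b ∧ x * x = 1 ∧ qm (π' b) = 1 ∧
    qm (π a) = 1

namespace Setup

variable {z : G} {Q : Subgroup G} {π : G → V6} {ρ : G → qAut qm} (S : Setup z Q π ρ)

include S

theorem eq_one_or_z {c : G} (hc : ∀ q ∈ Q, c * q = q * c) : c = 1 ∨ c = z := by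
  have hcz : c ∈ centralizer ({z} : Set G) := mem_centralizer_singleton_iff.2 (hc z S.zQ)
  have h1 : ρ c = 1 := qAut_ext fun v => by
    obtain ⟨q, hq, rfl⟩ := S.pi_surj v
    rw [← S.rho_pi c hcz q hq, hc q hq, mul_inv_cancel_right]
    rfl
  have hcQ := (S.rho_ker c hcz).1 h1
  refine (S.pi_ker c hcQ).1 (pb_nondeg fun w => ?_)
  obtain ⟨q, hq, rfl⟩ := S.pi_surj w
  exact (S.commute_iff hcQ hq).1 (hc q hq)

/-- Every involution is conjugate into the centralizer. -/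
theorem conj_into {w : G} (hw : w * w = 1) : ∃ g : G, g * w * g⁻¹ ∈ centralizer ({z} : Set G) := by
  haveI : Fact (Nat.Prime 2) := ⟨Nat.prime_two⟩
  have hQ : IsPGroup 2 Q := IsPGroup.of_card (n := 7) (by rw [S.card]; norm_num)
  obtain ⟨T, hT⟩ := hQ.exists_le_sylow
  have hne : Nontrivial (T : Subgroup G) :=
    (Subgroup.nontrivial_iff_ne_bot _).2 fun h => S.z1 (mem_bot.1 (h ▸ hT S.zQ))
  have hcen := T.2.center_nontrivial
  obtain ⟨⟨c, hc⟩, hc1⟩ := exists_ne (1 : center (T : Subgroup G))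
  have hc' : ∀ y ∈ (T : Subgroup G), (c : G) * y = y * (c : G) := fun y hy =>
    (congrArg Subtype.val (mem_center_iff.1 hc ⟨y, hy⟩)).symm
  have hcz : (c : G) = z := (S.eq_one_or_z fun q hq => hc' q (hT hq)).resolve_left fun h =>
    hc1 (Subtype.ext (Subtype.ext h))
  have hTC : (T : Subgroup G) ≤ centralizer ({z} : Set G) := fun y hy =>
    mem_centralizer_singleton_iff.2 (by rw [← hcz]; exact (hc' y hy).symm)
  obtain ⟨k, -, hk⟩ := (Nat.dvd_prime_pow Nat.prime_two).1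
    (orderOf_dvd_of_pow_eq_one (show w ^ 2 ^ 1 = 1 by rw [pow_one, pow_two, hw]))
  obtain ⟨g, hg⟩ := CfsgLib.Transfer.exists_conj_mem_sylow T (S := zpowers w)
    (IsPGroup.of_card (n := k) (by rw [Nat.card_zpowers, hk]))
  exact ⟨g, hTC (hg w (mem_zpowers w))⟩

end Setup

namespace Pair

variable {z t : G} {Q R : Subgroup G} {π π' : G → V6} {ρ ρ' : G → qAut qm}
  (P : Pair z t Q R π π' ρ ρ')

include P

theorem q_conj (hzt : IsConj z t) {x : G} (hx : x ∈ Q) (hx2 : x * x = 1) (hx1 : x ≠ 1) : IsConj z x := by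
  by_cases hxz : x = z
  · exact hxz ▸ IsConj.refl z
  have hs : Sing (π x) := by
    refine ⟨fun h => ((P.S.pi_ker x hx).1 h).elim hx1 hxz, ?_⟩
    rcases two_cases (qm (π x)) with e | e
    · exact e
    · have h := P.S.sq x hx
      rw [hx2, e, zb_one] at h
      exact absurd h.symm P.S.z1
  obtain ⟨g, hg, gx⟩ := ev_sing hs P.p_sing
  obtain ⟨c, hc, rfl⟩ := (P.S.rho_range g).1 hg
  rw [← P.S.rho_pi c hc x hx] at gx
  refine IsConj.trans ?_ (isConj_conj_self c x).symm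
  rcases P.S.pi_eq P.tQ (P.S.conj_mem hc hx) gx.symm with e | e
  · rw [e]; exact hzt
  · obtain ⟨q, -, -, hq⟩ := P.exists_swap
    rw [e, ← hq]
    exact hzt.trans (isConj_conj_self q t)

theorem r_conj (hzt : IsConj z t) {x : G} (hx : x ∈ R) (hx2 : x * x = 1) (hx1 : x ≠ 1) : IsConj z x :=
  hzt.trans (P.symm.q_conj hzt.symm hx hx2 hx1)

theorem comm_eq {a b : G} (ha : a ∈ Q) (hat : a * t = t * a) (hb : b ∈ R) (hbz : b * z = z * b) :
    b * a * b⁻¹ * a⁻¹ = zb z (pb (π a) (tv (π t) (ρ b))) * zb t (pb (π a) (tv (π t) (ρ b))) := by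
  obtain ⟨h1, h2⟩ := P.commutator_mem ha hat hb hbz
  have e1 := P.pi_commutator ha hat hb hbz
  have e2 := P.pi'_commutator ha hat hb hbz
  rw [P.eps_eq ha hat hb hbz] at e2
  rcases two_cases (pb (π a) (tv (π t) (ρ b))) with h | h <;> rw [h] at e1 e2 ⊢
  · rw [zb_zero, zb_zero, one_mul]
    exact P.E_ext h1 h2 (one_mem _) (one_mem _) (by rw [e1, zero_smul, P.S.pi_one]) (by rw [e2, zero_smul, P.S'.pi_one])
  · rw [zb_one, zb_one]
    exact P.E_ext h1 h2 (mul_mem P.S.zQ P.tQ) (mul_mem P.zR P.S'.zQ) (by rw [e1, one_smul, P.S.pi_zmul P.tQ])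
      (by rw [e2, one_smul, P.zt_comm, P.S'.pi_zmul P.zR])

theorem zb_ne {x y : ZMod 2} (h : zb z x * zb t y = 1) : x = 0 ∧ y = 0 := by
  rcases two_cases x with rfl | rfl <;> rcases two_cases y with rfl | rfl
  · exact ⟨rfl, rfl⟩
  · rw [zb_zero, zb_one, one_mul] at h; exact absurd h P.S'.z1
  · rw [zb_zero, zb_one, mul_one] at h; exact absurd h P.S.z1
  · rw [zb_one, zb_one] at h
    refine absurd ?_ P.ne
    rw [← inv_eq_of_mul_eq_one_right h, inv_eq_of_mul_eq_one_right P.S.z2]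

theorem zb_comm_tt (c d : ZMod 2) : zb t c * zb z d = zb z d * zb t c := by
  rcases two_cases c with rfl | rfl <;> rcases two_cases d with rfl | rfl <;> simp [zb_zero, zb_one, P.zt_comm]

theorem invol_iff {a b : G} (ha : a ∈ Q) (hat : a * t = t * a) (hb : b ∈ R) (hbz : b * z = z * b) :
    a * b * (a * b) = 1 ↔ qm (π a) = pb (π a) (tv (π t) (ρ b)) ∧ qm (π' b) = pb (π a) (tv (π t) (ρ b)) := by
  obtain ⟨h1, h2⟩ := P.commutator_mem ha hat hb hbz
  have hec : a * (b * a * b⁻¹ * a⁻¹) = b * a * b⁻¹ * a⁻¹ * a := P.E_central h1 h2 (P.S.z_comm ha) hat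
  have e : a * b * (a * b) = (b * a * b⁻¹ * a⁻¹) * (a * a * (b * b)) := by
    calc a * b * (a * b) = a * (b * a * b⁻¹ * a⁻¹) * (a * b * b) := by group
      _ = b * a * b⁻¹ * a⁻¹ * a * (a * b * b) := by rw [hec]
      _ = (b * a * b⁻¹ * a⁻¹) * (a * a * (b * b)) := by group
  rw [e, P.comm_eq ha hat hb hbz, P.S.sq a ha, P.S'.sq b hb]
  generalize pb (π a) (tv (π t) (ρ b)) = ε
  generalize qm (π a) = x
  generalize qm (π' b) = y
  have e2 : zb z ε * zb t ε * (zb z x * zb t y) = zb z (ε + x) * zb t (ε + y) := by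
    rw [← zb_mul P.S.z2, ← zb_mul P.S'.z2, mul_assoc, ← mul_assoc (zb t ε), P.zb_comm_tt]
    simp only [mul_assoc]
  rw [e2]
  constructor
  · intro h
    obtain ⟨g1, g2⟩ := P.zb_ne h
    exact ⟨(CharTwo.add_eq_zero.1 g1).symm, (CharTwo.add_eq_zero.1 g2).symm⟩
  · rintro ⟨rfl, rfl⟩
    rw [CharTwo.add_self_eq_zero, zb_zero, zb_zero, one_mul]

/-- An involution of `C(z)` outside `Q` is conjugate into the radical. -/
theorem to_U {x : G} (hx : x ∈ centralizer ({z} : Set G)) (hxQ : x ∉ Q) (hx2 : x * x = 1) :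
    ∃ c ∈ centralizer ({z} : Set G), ∃ a b, a ∈ Q ∧ a * t = t * a ∧ b ∈ R ∧ b * z = z * b ∧ b ∉ Q ∧
      c * x * c⁻¹ = a * b := by
  have hinv : ρ x * ρ x = 1 := by rw [← P.S.rho_mul x hx x hx, hx2, P.S.rho_one]
  have h2 : ∀ v, (ρ x).1 ((ρ x).1 v) = v := fun v => by rw [← qAut_mul_apply, hinv]; rfl
  obtain ⟨p₀, hp₀, hin⟩ := exists_inT_of_invol (P.S.rho_mem hx) h2 fun h => hxQ ((P.S.rho_ker x hx).1 h)
  obtain ⟨g, hg, gp⟩ := ev_sing hp₀ P.p_sing
  obtain ⟨c, hc, rfl⟩ := (P.S.rho_range g).1 hg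
  have hcx : c * x * c⁻¹ ∈ centralizer ({z} : Set G) := mul_mem (mul_mem hc hx) (inv_mem hc)
  have hρ : ρ (c * x * c⁻¹) = ρ c * ρ x * (ρ c)⁻¹ := by
    rw [P.S.rho_mul (c * x) (mul_mem hc hx) c⁻¹ (inv_mem hc), P.S.rho_mul c hc x hx, P.S.rho_inv hc]
  have hgi : ∀ v, (ρ c).1 (((ρ c)⁻¹).1 v) = v := fun v => by rw [← qAut_mul_apply, mul_inv_cancel]; rfl
  have hin' : InT (π t) (ρ (c * x * c⁻¹)) := by
    rw [hρ]
    refine ⟨?_, fun v hv => ?_⟩
    · rw [qAut_mul_apply, qAut_mul_apply]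
      have : ((ρ c)⁻¹).1 (π t) = p₀ := (ρ c).1.injective ((hgi _).trans gp.symm)
      rw [this, hin.1, gp]
    · obtain ⟨y, rfl⟩ : ∃ y, (ρ c).1 y = v := (ρ c).1.surjective v
      have hy : ((ρ c)⁻¹).1 ((ρ c).1 y) = y := (ρ c).1.injective (hgi _)
      rw [qAut_mul_apply, qAut_mul_apply, hy, ← map_add]
      rw [← gp, pb_map] at hv
      rcases hin.2 y hv with e | e <;> rw [e]
      · exact .inl (map_zero _)
      · exact .inr gp
  obtain ⟨b, hb, hbz, hbw⟩ := P.w_surj (tv_perp P.p_sing hin')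
  have hρb := inT_eq P.p_sing (P.inT hb hbz) hin' hbw
  have hbC := (P.R_z hb hbz).1
  have ha : c * x * c⁻¹ * b⁻¹ ∈ Q := by
    refine (P.S.rho_ker _ (mul_mem hcx (inv_mem hbC))).1 ?_
    rw [P.S.rho_mul _ hcx _ (inv_mem hbC), P.S.rho_inv hbC, hρb, mul_inv_cancel]
  have hbQ : b ∉ Q := fun h => hxQ (by
    have := mul_mem ha h
    rw [inv_mul_cancel_right] at this
    have h' := P.S.conj_mem (inv_mem hc) this
    rwa [show c⁻¹ * (c * x * c⁻¹) * c⁻¹⁻¹ = x by group] at h')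
  refine ⟨c, hc, c * x * c⁻¹ * b⁻¹, b, ha, ?_, hb, hbz, hbQ, by group⟩
  refine mem_centralizer_singleton_iff.1 ((P.mem_A ha).2 ?_)
  -- the square condition
  set a := c * x * c⁻¹ * b⁻¹ with hadef
  have hab : a * (b * a * b⁻¹) = (b * b)⁻¹ := by
    rw [eq_inv_iff_mul_eq_one, hadef]
    calc c * x * c⁻¹ * b⁻¹ * (b * (c * x * c⁻¹ * b⁻¹) * b⁻¹) * (b * b) = c * (x * x) * c⁻¹ := by group
      _ = 1 := by rw [hx2]; group
  have hpi : Pm (π t) ((ρ b).1 (π a) + π a) := by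
    rw [add_comm, ← P.S.rho_pi b hbC a ha, ← P.S.pi_mul a ha _ (P.S.conj_mem hbC ha), hab]
    rw [P.S'.sq b hb]
    rcases two_cases (qm (π' b)) with e | e <;> rw [e]
    · rw [zb_zero, inv_one]; exact .inl P.S.pi_one
    · rw [zb_one, P.S.pi_inv P.tQ]; exact .inr rfl
  by_contra hne
  have hp1 := (two_cases _).resolve_left hne
  rw [inT_formula P.p_sing (P.inT hb hbz), hp1, one_smul] at hpi
  refine hbQ ((P.w_pm_iff hb hbz).1 ?_)
  have h3 := hpi.add (show Pm (π t) (pb (π a + (1 : ZMod 2) • pt (π t)) (tv (π t) (ρ b)) • π t) by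
    rcases two_cases (pb (π a + (1 : ZMod 2) • pt (π t)) (tv (π t) (ρ b))) with e | e <;> rw [e]
    · exact .inl (zero_smul _ _)
    · exact .inr (one_smul _ _))
  rwa [one_smul, add_assoc, add_self6, add_zero] at h3

/-- The involutions of the first kind. -/
theorem type_zero {a b : G} (ha : a ∈ Q) (hat : a * t = t * a) (hb : b ∈ R) (hbz : b * z = z * b) (hbQ : b ∉ Q)
    (h2 : a * b * (a * b) = 1) (hq : qm (π' b) = 0) :
    a * b ∈ R ∨ ∃ q ∈ Q, q * t * q⁻¹ = z * t ∧ q⁻¹ * (a * b) * q ∈ R := by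
  obtain ⟨e1, e2⟩ := (P.invol_iff ha hat hb hbz).1 h2
  rw [hq] at e2
  rw [← e2] at e1
  have hs : SVec (π t) (tv (π t) (ρ b)) :=
    ⟨(P.quad_eq hb hbz).trans hq, P.w_perp hb hbz, fun h => hbQ ((P.w_pm_iff hb hbz).1 h)⟩
  rcases fact_7 P.p_sing hs e1 (P.perp ha hat) (by rw [pb_comm, ← e2]) with h | h
  · exact .inl (mul_mem (P.mem_E_of_pm ha h) hb)
  · obtain ⟨q, hq, hq1, hqt⟩ := P.exists_swap
    refine .inr ⟨q, hq, hqt, ?_⟩
    obtain ⟨hbC, hbt⟩ := P.R_z hb hbz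
    have ha' : q * b * q⁻¹ * b⁻¹ ∈ Q := by
      rw [show q * b * q⁻¹ * b⁻¹ = q * (b * q⁻¹ * b⁻¹) by group]
      exact mul_mem hq (P.S.conj_mem hbC (inv_mem hq))
    have hπ : Pm (π t) (π (q * b * q⁻¹ * b⁻¹) + tv (π t) (ρ b)) := by
      rw [show q * b * q⁻¹ * b⁻¹ = q * (b * q⁻¹ * b⁻¹) by group, P.S.pi_mul q hq _ (P.S.conj_mem hbC (inv_mem hq)),
        P.S.rho_pi b hbC _ (inv_mem hq), P.S.pi_inv hq, add_comm (π q), inT_formula P.p_sing (P.inT hb hbz), hq1,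
        one_smul, one_smul, add_comm, add_cancel6]
      rcases two_cases (pb (π q + pt (π t)) (tv (π t) (ρ b))) with e | e <;> rw [e]
      · exact .inl (zero_smul _ _)
      · exact .inr (one_smul _ _)
    have hd : (q * b * q⁻¹ * b⁻¹)⁻¹ * a ∈ Q := mul_mem (inv_mem ha') ha
    have hdR : (q * b * q⁻¹ * b⁻¹)⁻¹ * a ∈ R := by
      refine P.mem_E_of_pm hd ?_
      rw [P.S.pi_mul _ (inv_mem ha') a ha, P.S.pi_inv ha']
      exact pm_trans hπ (pm_symm h)
    have hR' : q⁻¹ * ((q * b * q⁻¹ * b⁻¹)⁻¹ * a) * q ∈ R := by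
      have hq' : q⁻¹ * t * q = z * t := by
        have h1 : q⁻¹ * t * q * z = t := by
          calc q⁻¹ * t * q * z = q⁻¹ * (t * (q * z)) := by group
            _ = q⁻¹ * (z * t * q) := by rw [P.S.z_comm hq, ← mul_assoc t, P.zt_comm]
            _ = q⁻¹ * (q * t) := by rw [← hqt]; group
            _ = t := by group
        rw [P.zt_comm]
        calc q⁻¹ * t * q = q⁻¹ * t * q * z * z := by rw [mul_assoc _ z z, P.S.z2, mul_one]
          _ = t * z := by rw [h1]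
      rcases P.E_cases hd hdR with e | e | e | e <;> rw [e]
      · simp
      · rw [mul_assoc, ← P.S.z_comm hq, inv_mul_cancel_left]; exact P.zR
      · rw [hq']; exact mul_mem P.zR P.S'.zQ
      · rw [show q⁻¹ * (z * t) * q = q⁻¹ * z * q * (q⁻¹ * t * q) by group, mul_assoc q⁻¹, ← P.S.z_comm hq,
          inv_mul_cancel_left, hq', ← mul_assoc, P.S.z2, one_mul]
        exact P.S'.zQ
    have hcen : b * ((q * b * q⁻¹ * b⁻¹)⁻¹ * a) = (q * b * q⁻¹ * b⁻¹)⁻¹ * a * b :=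
      P.E_central hd hdR hbz (mem_centralizer_singleton_iff.1 hbt)
    have e : q⁻¹ * (a * b) * q = b * (q⁻¹ * ((q * b * q⁻¹ * b⁻¹)⁻¹ * a) * q) := by
      calc q⁻¹ * (a * b) * q = q⁻¹ * (q * b * q⁻¹ * b⁻¹) * ((q * b * q⁻¹ * b⁻¹)⁻¹ * a * b) * q := by group
        _ = q⁻¹ * (q * b * q⁻¹ * b⁻¹) * (b * ((q * b * q⁻¹ * b⁻¹)⁻¹ * a)) * q := by rw [hcen]
        _ = b * (q⁻¹ * ((q * b * q⁻¹ * b⁻¹)⁻¹ * a) * q) := by group
    rw [e]
    exact mul_mem hb hR'

theorem conj_z_of_zero (hzt : IsConj z t) {a b : G} (ha : a ∈ Q) (hat : a * t = t * a) (hb : b ∈ R)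
    (hbz : b * z = z * b) (hbQ : b ∉ Q) (h2 : a * b * (a * b) = 1) (hq : qm (π' b) = 0) : IsConj z (a * b) := by
  have hne : a * b ≠ 1 := fun h => hbQ (by rw [← inv_eq_of_mul_eq_one_right h]; exact inv_mem ha)
  rcases P.type_zero ha hat hb hbz hbQ h2 hq with h | ⟨q, -, -, h⟩
  · exact P.r_conj hzt h h2 hne
  · refine (P.r_conj hzt h ?_ ?_).trans ?_
    · rw [show q⁻¹ * (a * b) * q * (q⁻¹ * (a * b) * q) = q⁻¹ * (a * b * (a * b)) * q by group, h2, mul_one,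
        inv_mul_cancel]
    · intro h'
      exact hne (by rw [show a * b = q * (q⁻¹ * (a * b) * q) * q⁻¹ by group, h', mul_one, mul_inv_cancel])
    · have := isConj_conj_self q (q⁻¹ * (a * b) * q)
      rwa [show q * (q⁻¹ * (a * b) * q) * q⁻¹ = a * b by group] at this

theorem typeOne_of {a b : G} (ha : a ∈ Q) (hat : a * t = t * a) (hb : b ∈ R) (hbz : b * z = z * b) (hbQ : b ∉ Q)
    (h2 : a * b * (a * b) = 1) (hq : qm (π' b) = 1) : TypeOne z t Q R π π' (a * b) := by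
  obtain ⟨e1, e2⟩ := (P.invol_iff ha hat hb hbz).1 h2
  exact ⟨a, b, ha, hat, hb, hbz, hbQ, rfl, h2, hq, e1.trans (e2.symm.trans hq)⟩

omit P in
theorem isConj_of_mem {x y c : G} (h : c * x * c⁻¹ = y) : IsConj x y := isConj_iff.2 ⟨c, h⟩

/-- The involutions of the second kind are conjugate in `C(z)`. -/
theorem typeOne_conj {x x' : G} (hx : TypeOne z t Q R π π' x) (hx' : TypeOne z t Q R π π' x') :
    ∃ c ∈ centralizer ({z} : Set G), c * x * c⁻¹ = x' := by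
  obtain ⟨a, b, ha, hat, hb, hbz, -, rfl, h2, hqb, hqa⟩ := hx
  obtain ⟨a', b', ha', hat', hb', hbz', -, rfl, h2', hqb', hqa'⟩ := hx'
  have hv : NVec (π t) (tv (π t) (ρ b)) := ⟨(P.quad_eq hb hbz).trans hqb, P.w_perp hb hbz⟩
  have hv' : NVec (π t) (tv (π t) (ρ b')) := ⟨(P.quad_eq hb' hbz').trans hqb', P.w_perp hb' hbz'⟩
  have hu : NVec (π t) (π a) := ⟨hqa, P.perp ha hat⟩
  have hu' : NVec (π t) (π a') := ⟨hqa', P.perp ha' hat'⟩
  have huv : pb (π a) (tv (π t) (ρ b)) = 1 := ((P.invol_iff ha hat hb hbz).1 h2).2.symm.trans hqb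
  have huv' : pb (π a') (tv (π t) (ρ b')) = 1 := ((P.invol_iff ha' hat' hb' hbz').1 h2').2.symm.trans hqb'
  obtain ⟨g, hg, gp, gv, gu⟩ := ev_pair P.p_sing hv hu huv hv' hu' huv'
  obtain ⟨c, hc, hct, rfl⟩ := P.exists_lift hg gp
  have hcb : c * b * c⁻¹ ∈ R := P.S'.conj_mem hct hb
  have hcbz : c * b * c⁻¹ * z = z * (c * b * c⁻¹) := mem_centralizer_singleton_iff.1
    (mul_mem (mul_mem hc (mem_centralizer_singleton_iff.2 hbz)) (inv_mem hc))
  set e₁ := a'⁻¹ * (c * a * c⁻¹) with he₁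
  have he₁Q : e₁ ∈ Q := mul_mem (inv_mem ha') (P.S.conj_mem hc ha)
  have he₁R : e₁ ∈ R := P.mem_E_of_pm he₁Q (by
    rw [he₁, P.S.pi_mul _ (inv_mem ha') _ (P.S.conj_mem hc ha), P.S.pi_inv ha', P.S.rho_pi c hc a ha, add_comm]
    exact gu)
  set e₂ := b'⁻¹ * (c * b * c⁻¹) with he₂
  have he₂R : e₂ ∈ R := mul_mem (inv_mem hb') hcb
  have he₂Q : e₂ ∈ Q :=
    P.w_eq hb' hbz' hcb hcbz (pm_symm (pm_trans (P.w_conj hb hbz hc hct) gv))
  have hcx : c * (a * b) * c⁻¹ = a' * b' * (e₁ * e₂) := by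
    have h1 := P.E_central he₁Q he₁R hbz' (mem_centralizer_singleton_iff.1 (P.R_z hb' hbz').2)
    calc c * (a * b) * c⁻¹ = a' * (e₁ * b') * e₂ := by rw [he₁, he₂]; group
      _ = a' * b' * (e₁ * e₂) := by rw [← h1]; group
  obtain ⟨α, β, hαβ⟩ : ∃ α β : ZMod 2, e₁ * e₂ = zb z α * zb t β := by
    rcases P.E_cases (mul_mem he₁Q he₂Q) (mul_mem he₁R he₂R) with e | e | e | e <;> rw [e]
    · exact ⟨0, 0, by simp [zb_zero]⟩
    · exact ⟨1, 0, by simp [zb_zero, zb_one]⟩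
    · exact ⟨0, 1, by simp [zb_zero, zb_one]⟩
    · exact ⟨1, 1, by simp [zb_one]⟩
  -- adjust by an element of the first half
  set y := β • π a' + (α + β) • tv (π t) (ρ b') with hy
  have hyperp : pb (π t) y = 0 := by
    rw [hy, pb_add_right, pb_smul_right, pb_smul_right, hu'.2, hv'.2, mul_zero, mul_zero, add_zero]
  obtain ⟨d, hd, hdy⟩ := P.S.pi_surj y
  have hdt : d * t = t * d := mem_centralizer_singleton_iff.1 ((P.mem_A hd).2 (hdy ▸ hyperp))
  have yu : pb (π d) (π a') = α + β := by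
    rw [hdy, hy, pb_add_left, pb_smul_left, pb_smul_left, pb_self, mul_zero, zero_add, pb_comm, huv', mul_one]
  have yv : pb (π d) (tv (π t) (ρ b')) = β := by
    rw [hdy, hy, pb_add_left, pb_smul_left, pb_smul_left, pb_self, huv', mul_one, mul_zero, add_zero]
  have hd1 : d * a' * d⁻¹ = zb z (α + β) * a' := by
    rw [P.S.comm hd ha', yu]; group
  have hd2 : d * b' * d⁻¹ = zb z β * zb t β * b' := by
    have h1 := P.comm_eq hd hdt hb' hbz'
    rw [yv] at h1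
    have hi : (zb z β * zb t β)⁻¹ = zb z β * zb t β := by
      apply inv_eq_of_mul_eq_one_right
      rw [mul_assoc, ← mul_assoc (zb t β), P.zb_comm_tt, ← mul_assoc, ← mul_assoc, zb_mul P.S.z2,
        CharTwo.add_self_eq_zero, zb_zero, one_mul, zb_mul P.S'.z2, CharTwo.add_self_eq_zero, zb_zero]
    rw [← hi, ← h1]
    group
  have hzmem : ∀ γ δ, zb z γ * zb t δ ∈ Q ∧ zb z γ * zb t δ ∈ R := fun γ δ => by
    rcases two_cases γ with rfl | rfl <;> rcases two_cases δ with rfl | rfl <;>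
      simp [zb_zero, zb_one, P.S.zQ, P.zR, P.tQ, P.S'.zQ, mul_mem P.S.zQ P.tQ, mul_mem P.zR P.S'.zQ]
  have hfix : d * (e₁ * e₂) * d⁻¹ = e₁ * e₂ := by
    rw [P.E_central (mul_mem he₁Q he₂Q) (mul_mem he₁R he₂R) (P.S.z_comm hd) hdt, mul_inv_cancel_right]
  refine ⟨d * c, mul_mem (P.S.le hd) hc, ?_⟩
  have hcomb : d * c * (a * b) * (d * c)⁻¹ = (d * a' * d⁻¹) * (d * b' * d⁻¹) * (d * (e₁ * e₂) * d⁻¹) := by
    calc d * c * (a * b) * (d * c)⁻¹ = d * (c * (a * b) * c⁻¹) * d⁻¹ := by group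
      _ = d * (a' * b' * (e₁ * e₂)) * d⁻¹ := by rw [hcx]
      _ = (d * a' * d⁻¹) * (d * b' * d⁻¹) * (d * (e₁ * e₂) * d⁻¹) := by group
  rw [hcomb, hd1, hd2, hfix, hαβ]
  obtain ⟨m1, m2⟩ := hzmem β β
  have c1 : a' * (zb z β * zb t β) = zb z β * zb t β * a' := P.E_central m1 m2 (P.S.z_comm ha') hat'
  have hbt' : b' * t = t * b' := mem_centralizer_singleton_iff.1 (P.R_z hb' hbz').2
  have c2 : a' * b' * (zb z α * zb t β) = zb z α * zb t β * (a' * b') :=
    P.E_central (hzmem α β).1 (hzmem α β).2 (Commute.mul_left (show Commute a' z from P.S.z_comm ha') hbz').eq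
      (Commute.mul_left (show Commute a' t from hat') hbt').eq
  calc zb z (α + β) * a' * (zb z β * zb t β * b') * (zb z α * zb t β)
      = zb z (α + β) * (a' * (zb z β * zb t β)) * b' * (zb z α * zb t β) := by group
    _ = zb z (α + β) * (zb z β * zb t β) * (a' * b' * (zb z α * zb t β)) := by rw [c1]; group
    _ = zb z (α + β) * zb z β * (zb t β * zb z α) * zb t β * (a' * b') := by rw [c2]; group
    _ = zb z (α + β + β + α) * (zb t β * zb t β) * (a' * b') := by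
        rw [P.zb_comm_tt, zb_mul P.S.z2,
          show zb z (α + β + β) * (zb z α * zb t β) * zb t β =
            zb z (α + β + β) * zb z α * (zb t β * zb t β) by group, zb_mul P.S.z2]
    _ = a' * b' := by
        rw [zb_mul P.S'.z2, CharTwo.add_self_eq_zero, zb_zero,
          show α + β + β + α = 0 by rw [add_assoc α, CharTwo.add_self_eq_zero, add_zero, CharTwo.add_self_eq_zero],
          zb_zero, one_mul, one_mul]

theorem exists_typeOne : ∃ x, TypeOne z t Q R π π' x := by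
  obtain ⟨s, hs⟩ := fact_S P.p_sing
  obtain ⟨v, hv, -⟩ := fact_1 P.p_sing hs
  obtain ⟨u, hu, huv⟩ := fact_10 P.p_sing hv
  obtain ⟨a, ha, rfl⟩ := P.S.pi_surj u
  have hat : a * t = t * a := mem_centralizer_singleton_iff.1 ((P.mem_A ha).2 hu.2)
  obtain ⟨b, hb, hbz, hbw⟩ := P.w_surj hv.2
  have hqb : qm (π' b) = 1 := by rw [← P.quad_eq hb hbz, pm_quad P.p_sing hbw hv.2, hv.1]
  have heps : pb (π a) (tv (π t) (ρ b)) = 1 := by rw [pb_comm, pm_polar hbw hu.2, pb_comm, huv]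
  have hbQ : b ∉ Q := fun h => by
    have := ((P.w_pm_iff hb hbz).2 h).polar hu.2
    rw [pb_comm, heps] at this
    exact one_ne_zero this
  exact ⟨a * b, P.typeOne_of ha hat hb hbz hbQ
    ((P.invol_iff ha hat hb hbz).2 ⟨hu.1.trans heps.symm, hqb.trans heps.symm⟩) hqb⟩

/-- At most two classes of involutions. -/
theorem classes (hzt : IsConj z t) {x₀ : G} (h₀ : TypeOne z t Q R π π' x₀) {w : G} (hw : w * w = 1) (hw1 : w ≠ 1) :
    IsConj w z ∨ IsConj w x₀ := by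
  obtain ⟨g, hg⟩ := P.S.conj_into hw
  have hx2 : g * w * g⁻¹ * (g * w * g⁻¹) = 1 := by
    rw [show g * w * g⁻¹ * (g * w * g⁻¹) = g * (w * w) * g⁻¹ by group, hw, mul_one, mul_inv_cancel]
  have hx1 : g * w * g⁻¹ ≠ 1 := fun h => hw1 (conj_eq_one_iff.1 h)
  by_cases hQ : g * w * g⁻¹ ∈ Q
  · exact .inl ((isConj_conj_self g w).trans (P.q_conj hzt hQ hx2 hx1).symm)
  obtain ⟨c, hc, a, b, ha, hat, hb, hbz, hbQ, hcx⟩ := P.to_U hg hQ hx2
  have hab : a * b * (a * b) = 1 := by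
    rw [← hcx, show c * (g * w * g⁻¹) * c⁻¹ * (c * (g * w * g⁻¹) * c⁻¹) = c * (g * w * g⁻¹ * (g * w * g⁻¹)) * c⁻¹ by
      group, hx2, mul_one, mul_inv_cancel]
  have hwx : IsConj w (a * b) := (isConj_conj_self g w).trans (isConj_of_mem hcx)
  rcases two_cases (qm (π' b)) with e | e
  · exact .inl (hwx.trans (P.conj_z_of_zero hzt ha hat hb hbz hbQ hab e).symm)
  · obtain ⟨d, -, hd⟩ := P.typeOne_conj (P.typeOne_of ha hat hb hbz hbQ hab e) h₀
    exact .inr (hwx.trans (isConj_of_mem hd))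

end Pair

end CfsgLib.SuzType
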