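import Mathlib
import Cfsg.Agent.Lib.SuzType.Invol

/-!
The second kind of involution is not conjugate to the first.
-/

set_option autoImplicit false
set_option linter.style.haveILetI false
set_option linter.unusedSectionVars false
set_option linter.unusedSimpArgs false

namespace CfsgLib.SuzType

open Subgroup CfsgLib.Classical

variable {G : Type*} [Group G] [Finite G]

/-- A pair of conjugate involutions, with the relation symmetrical on the class. -/
structure Config (z t : G) (Q R : Subgroup G) (π π' : G → V6) (ρ ρ' : G → qAut qm) : Prop where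
  P : Pair z t Q R π π' ρ ρ'
  conj_t : ∃ g : G, g * z * g⁻¹ = t ∧ R = Q.map (MulAut.conj g).toMonoidHom
  hsymm : ∀ g : G, g * z * g⁻¹ ∈ Q → g⁻¹ * z * g ∈ Q

/-- `x` lies in the subgroup of a conjugate of `z` inside `Q`. -/
def Near (z : G) (Q : Subgroup G) (x : G) : Prop := ∃ h : G, h * z * h⁻¹ ∈ Q ∧ h * z * h⁻¹ ≠ z ∧ h⁻¹ * x * h ∈ Q

omit [Finite G] in
theorem mem_conj_iff {Q : Subgroup G} {g x : G} : x ∈ Q.map (MulAut.conj g).toMonoidHom ↔ g⁻¹ * x * g ∈ Q :=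
  ⟨fun ⟨w, hw, hwx⟩ => by rw [← hwx]; simpa [mul_assoc] using hw, fun h => ⟨_, h, by simp [mul_assoc]⟩⟩

namespace Config

variable {z t : G} {Q R : Subgroup G} {π π' : G → V6} {ρ ρ' : G → qAut qm}
  (C : Config z t Q R π π' ρ ρ')

include C

theorem zt : IsConj z t := by
  obtain ⟨g, hg, -⟩ := C.conj_t
  exact isConj_iff.2 ⟨g, hg⟩

theorem not_near {x : G} (hx : TypeOne z t Q R π π' x) : ¬ Near z Q x := by
  obtain ⟨a, b, ha, hat, hb, hbz, -, rfl, h2, hqb, -⟩ := hx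
  rintro ⟨h, hs, hsne, hxh⟩
  have P2 : Pair z (h * z * h⁻¹) Q (Q.map (MulAut.conj h).toMonoidHom) π (fun x => π (h⁻¹ * x * h)) ρ
      (fun x => ρ (h⁻¹ * x * h)) := ⟨C.P.S, C.P.S.conj h, hs, mem_conj_iff.2 (C.hsymm h hs), hsne⟩
  have hz : a * b * z = z * (a * b) :=
    (Commute.mul_left (show Commute a z from C.P.S.z_comm ha) hbz).eq
  have hxR : a * b ∈ Q.map (MulAut.conj h).toMonoidHom := mem_conj_iff.2 hxh
  have hq0 : qm (tv (π (h * z * h⁻¹)) (ρ (a * b))) = 0 := by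
    rw [P2.quad_eq hxR hz]
    rcases two_cases (qm (π (h⁻¹ * (a * b) * h))) with e | e
    · exact e
    · have := P2.S'.sq _ hxR
      rw [h2] at this
      rw [e, zb_one] at this
      exact absurd this.symm P2.S'.z1
  have hρ : ρ (a * b) = ρ b := by
    rw [C.P.S.rho_mul a (C.P.S.le ha) b (C.P.R_z hb hbz).1, C.P.S.rho_Q ha, one_mul]
  have h1 := inT_range_quad P2.p_sing (P2.inT hxR hz) (pt (π t))
  rw [hq0, mul_zero, hρ, inT_range_quad C.P.p_sing (C.P.inT hb hbz), pt_spec C.P.p_sing, one_mul,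
    C.P.quad_eq hb hbz, hqb] at h1
  exact one_ne_zero h1

theorem near_of_zero {a b : G} (ha : a ∈ Q) (hat : a * t = t * a) (hb : b ∈ R) (hbz : b * z = z * b) (hbQ : b ∉ Q)
    (h2 : a * b * (a * b) = 1) (hq : qm (π' b) = 0) : Near z Q (a * b) := by
  obtain ⟨g, hg, hR⟩ := C.conj_t
  rcases C.P.type_zero ha hat hb hbz hbQ h2 hq with h | ⟨q, hq, hqt, h⟩
  · exact ⟨g, hg ▸ C.P.tQ, hg ▸ C.P.ne, mem_conj_iff.1 (hR ▸ h)⟩
  · have e : q * g * z * (q * g)⁻¹ = z * t := by rw [← hqt, ← hg]; group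
    refine ⟨q * g, e ▸ mul_mem C.P.S.zQ C.P.tQ, fun h' => C.P.S'.z1 ?_, ?_⟩
    · rw [e] at h'
      exact mul_eq_left.1 h'
    · have := mem_conj_iff.1 (hR ▸ h)
      rwa [show (q * g)⁻¹ * (a * b) * (q * g) = g⁻¹ * (q⁻¹ * (a * b) * q) * g by group]

theorem near_conj {x c : G} (hc : c ∈ centralizer ({z} : Set G)) (h : Near z Q (c * x * c⁻¹)) : Near z Q x := by
  obtain ⟨h, h1, h2, h3⟩ := h
  have hci : c⁻¹ ∈ centralizer ({z} : Set G) := inv_mem hc
  refine ⟨c⁻¹ * h, ?_, fun e => h2 ?_, ?_⟩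
  · rw [show c⁻¹ * h * z * (c⁻¹ * h)⁻¹ = c⁻¹ * (h * z * h⁻¹) * c⁻¹⁻¹ by group]
    exact C.P.S.conj_mem hci h1
  · calc h * z * h⁻¹ = c * (c⁻¹ * h * z * (c⁻¹ * h)⁻¹) * c⁻¹ := by group
      _ = z := by rw [e, mem_centralizer_singleton_iff.1 hc, mul_inv_cancel_right]
  · rwa [show (c⁻¹ * h)⁻¹ * x * (c⁻¹ * h) = h⁻¹ * (c * x * c⁻¹) * h by group]

/-- A conjugate exchanging `z` and the second kind. -/
theorem exists_exchange {x : G} (hx : TypeOne z t Q R π π' x) (hc : IsConj z x) :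
    ∃ g : G, g * z * g⁻¹ = x ∧ g * x * g⁻¹ = z := by
  obtain ⟨g, hg⟩ := isConj_iff.1 hc
  obtain ⟨a, b, ha, hat, hb, hbz, hbQ, hxab, hx2, hqb, hqa⟩ := hx
  have hxQ : x ∉ Q := fun h => hbQ (by
    have := mul_mem (inv_mem ha) (hxab ▸ h)
    rwa [inv_mul_cancel_left] at this)
  have hxz : x * z = z * x := by
    rw [hxab]; exact (Commute.mul_left (show Commute a z from C.P.S.z_comm ha) hbz).eq
  have hyC : g⁻¹ * z * g ∈ centralizer ({z} : Set G) := by
    rw [mem_centralizer_singleton_iff]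
    calc g⁻¹ * z * g * z = g⁻¹ * (z * (g * z * g⁻¹)) * g := by group
      _ = g⁻¹ * ((g * z * g⁻¹) * z) * g := by rw [hg, hxz]
      _ = z * (g⁻¹ * z * g) := by group
  have hyQ : g⁻¹ * z * g ∉ Q := fun h => hxQ (by
    have := C.hsymm g⁻¹ (by rwa [inv_inv])
    rwa [inv_inv, hg] at this)
  have hy2 : g⁻¹ * z * g * (g⁻¹ * z * g) = 1 := by
    rw [show g⁻¹ * z * g * (g⁻¹ * z * g) = g⁻¹ * (z * z) * g by group, C.P.S.z2, mul_one, inv_mul_cancel]
  obtain ⟨c, hc', a', b', ha', hat', hb', hbz', hbQ', hcy⟩ := C.P.to_U hyC hyQ hy2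
  have hab : a' * b' * (a' * b') = 1 := by
    rw [← hcy, show c * (g⁻¹ * z * g) * c⁻¹ * (c * (g⁻¹ * z * g) * c⁻¹) = c * (g⁻¹ * z * g * (g⁻¹ * z * g)) * c⁻¹ by
      group, hy2, mul_one, mul_inv_cancel]
  rcases two_cases (qm (π' b')) with e | e
  · exfalso
    obtain ⟨h, h1, h2, h3⟩ := C.near_conj hc' (hcy ▸ C.near_of_zero ha' hat' hb' hbz' hbQ' hab e)
    -- transfer by `g`
    refine C.not_near ⟨a, b, ha, hat, hb, hbz, hbQ, hxab, hx2, hqb, hqa⟩ ⟨g * h, ?_, ?_, ?_⟩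
    · have h4 := C.hsymm (g * h)⁻¹ (by
        rw [inv_inv, show (g * h)⁻¹ * z * (g * h) = h⁻¹ * (g⁻¹ * z * g) * h by group]; exact h3)
      rwa [inv_inv] at h4
    · intro h4
      refine hxQ ?_
      have hgh : g * h ∈ centralizer ({z} : Set G) :=
        mem_centralizer_singleton_iff.2 (mul_inv_eq_iff_eq_mul.1 h4)
      have h5 := C.P.S.conj_mem hgh (C.hsymm h h1)
      rwa [show g * h * (h⁻¹ * z * h) * (g * h)⁻¹ = g * z * g⁻¹ by group, hg] at h5
    · rw [← hg, show (g * h)⁻¹ * (g * z * g⁻¹) * (g * h) = h⁻¹ * z * h by group]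
      exact C.hsymm h h1
  · obtain ⟨d, hd, hdx⟩ := C.P.typeOne_conj (C.P.typeOne_of ha' hat' hb' hbz' hbQ' hab e)
      ⟨a, b, ha, hat, hb, hbz, hbQ, hxab, hx2, hqb, hqa⟩
    rw [← hcy] at hdx
    have hdc := mem_centralizer_singleton_iff.1 (inv_mem (mul_mem hd hc'))
    refine ⟨g * (d * c)⁻¹, ?_, ?_⟩
    · calc g * (d * c)⁻¹ * z * (g * (d * c)⁻¹)⁻¹ = g * ((d * c)⁻¹ * z * (d * c)) * g⁻¹ := by group
        _ = g * z * g⁻¹ := by rw [hdc, mul_assoc z, inv_mul_cancel, mul_one]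
        _ = x := hg
    · conv_lhs => rw [← hdx]
      group

/-- The radical of the four group. -/
def rad : Subgroup G where
  carrier := {c | c ∈ centralizer ({z} : Set G) ∧ c ∈ centralizer ({t} : Set G) ∧ InT (π t) (ρ c)}
  one_mem' := ⟨one_mem _, one_mem _, by rw [C.P.S.rho_one]; exact ⟨rfl, fun x _ => pm_self x⟩⟩
  mul_mem' := fun {x y} ⟨hx, hx', hx''⟩ ⟨hy, hy', hy''⟩ =>
    ⟨mul_mem hx hy, mul_mem hx' hy', by
      rw [C.P.S.rho_mul x hx y hy]; exact (inT_mul C.P.p_sing hx'' hy'').1⟩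
  inv_mem' := fun {x} ⟨hx, hx', hx''⟩ => by
    refine ⟨inv_mem hx, inv_mem hx', ?_⟩
    obtain ⟨h1, h2⟩ := inT_mul C.P.p_sing hx'' hx''
    have h3 : ρ x * ρ x = 1 := inT_trivial C.P.p_sing h1 (by rwa [add_self6, add_zero] at h2)
    rw [C.P.S.rho_inv hx, inv_eq_of_mul_eq_one_right h3]
    exact hx''

theorem mem_rad {c : G} : c ∈ C.rad ↔
    c ∈ centralizer ({z} : Set G) ∧ c ∈ centralizer ({t} : Set G) ∧ InT (π t) (ρ c) := Iff.rfl

theorem rad_decomp {c : G} (hc : c ∈ C.rad) :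
    ∃ a b, a ∈ Q ∧ a * t = t * a ∧ b ∈ R ∧ b * z = z * b ∧ c = a * b := by
  obtain ⟨h1, h2, h3⟩ := C.mem_rad.1 hc
  obtain ⟨b, hb, hbz, hbw⟩ := C.P.w_surj (tv_perp C.P.p_sing h3)
  have hρ := inT_eq C.P.p_sing (C.P.inT hb hbz) h3 hbw
  obtain ⟨hbC, hbt⟩ := C.P.R_z hb hbz
  refine ⟨c * b⁻¹, b, (C.P.S.rho_ker _ (mul_mem h1 (inv_mem hbC))).1 ?_, ?_, hb, hbz, by group⟩
  · rw [C.P.S.rho_mul _ h1 _ (inv_mem hbC), C.P.S.rho_inv hbC, hρ, mul_inv_cancel]
  · exact mem_centralizer_singleton_iff.1 (mul_mem h2 (inv_mem hbt))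

theorem mem_rad_Q {a : G} (ha : a ∈ Q) (hat : a * t = t * a) : a ∈ C.rad :=
  ⟨C.P.S.le ha, mem_centralizer_singleton_iff.2 hat, by
    rw [C.P.S.rho_Q ha]; exact ⟨rfl, fun x _ => pm_self x⟩⟩

theorem mem_rad_R {b : G} (hb : b ∈ R) (hbz : b * z = z * b) : b ∈ C.rad :=
  ⟨(C.P.R_z hb hbz).1, (C.P.R_z hb hbz).2, C.P.inT hb hbz⟩

theorem rho_image_le :
    Nat.card ((fun c => ρ c) '' (C.rad : Set G)) ≤ 16 ∧ 1024 ≤ Nat.card C.rad := by
  classical
  haveI := Fintype.ofFinite G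
  haveI := finite_qAut qm
  let φ : ↥(C.rad) →* qAut qm :=
    MonoidHom.mk' (fun c => ρ (c : G)) fun x y => C.P.S.rho_mul x (C.mem_rad.1 x.2).1 y (C.mem_rad.1 y.2).1
  let ψ : ↥(R ⊓ centralizer ({z} : Set G)) →* qAut qm :=
    MonoidHom.mk' (fun c => ρ (c : G)) fun x y => C.P.S.rho_mul x (mem_inf.1 x.2).2 y (mem_inf.1 y.2).2
  have hrange : φ.range = ψ.range := by
    ext g
    constructor
    · rintro ⟨⟨c, hc⟩, rfl⟩
      obtain ⟨a, b, ha, hat, hb, hbz, rfl⟩ := C.rad_decomp hc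
      refine ⟨⟨b, hb, mem_centralizer_singleton_iff.2 hbz⟩, ?_⟩
      show ρ b = ρ (a * b)
      rw [C.P.S.rho_mul a (C.P.S.le ha) b (C.P.R_z hb hbz).1, C.P.S.rho_Q ha, one_mul]
    · rintro ⟨⟨b, hb, hb'⟩, rfl⟩
      exact ⟨⟨b, C.mem_rad_R hb (mem_centralizer_singleton_iff.1 hb')⟩, rfl⟩
  have hψk : Nat.card ψ.ker = 4 := by
    have he : (ψ.ker.map (R ⊓ centralizer ({z} : Set G)).subtype : Set G) = ({1, z, t, z * t} : Finset G) := by
      ext e
      simp only [coe_map, Set.mem_image, SetLike.mem_coe, MonoidHom.mem_ker, Finset.coe_insert, Finset.coe_singleton,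
        Set.mem_insert_iff, Set.mem_singleton_iff]
      constructor
      · rintro ⟨⟨b, hb, hb'⟩, hbk, rfl⟩
        exact C.P.E_cases ((C.P.S.rho_ker b hb').1 hbk) hb
      · intro he
        have heQ : e ∈ Q ∧ e ∈ R := by
          rcases he with rfl | rfl | rfl | rfl
          · exact ⟨one_mem _, one_mem _⟩
          · exact ⟨C.P.S.zQ, C.P.zR⟩
          · exact ⟨C.P.tQ, C.P.S'.zQ⟩
          · exact ⟨mul_mem C.P.S.zQ C.P.tQ, mul_mem C.P.zR C.P.S'.zQ⟩
        exact ⟨⟨e, heQ.2, C.P.S.le heQ.1⟩, C.P.S.rho_Q heQ.1, rfl⟩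
    have h1 : ({1, z, t, z * t} : Finset G).card = 4 := by
      have a1 : z ≠ z * t := fun h => C.P.S'.z1 (mul_eq_left.1 h.symm)
      have a2 : t ≠ z * t := fun h => C.P.S.z1 (mul_eq_right.1 h.symm)
      have a3 : (1 : G) ≠ z * t := fun h => C.P.ne
        (by rw [← inv_eq_of_mul_eq_one_right h.symm, inv_eq_of_mul_eq_one_right C.P.S.z2])
      simp [C.P.S.z1.symm, C.P.S'.z1.symm, C.P.ne.symm, a1, a2, a3]
    rw [Nat.card_congr (ψ.ker.equivMapOfInjective _ (Subgroup.subtype_injective _)).toEquiv,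
      ← SetLike.coe_sort_coe, he, Nat.card_coe_set_eq, Set.ncard_coe_finset, h1]
  have hψr : Nat.card ψ.range = 16 := by
    have h := card_mul_index ψ.ker
    rw [index_ker, hψk, C.P.symm.card_A] at h
    omega
  have himg : (fun c => ρ c) '' (C.rad : Set G) = (φ.range : Set (qAut qm)) := by
    ext g
    exact ⟨fun ⟨c, hc, e⟩ => ⟨⟨c, hc⟩, e⟩, fun ⟨c, e⟩ => ⟨c, c.2, e⟩⟩
  refine ⟨by rw [himg, hrange, SetLike.coe_sort_coe, hψr], ?_⟩
  have hφk : 64 ≤ Nat.card φ.ker := by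
    rw [← C.P.card_A]
    refine Nat.card_le_card_of_injective (fun a => ⟨⟨a, C.mem_rad_Q (mem_inf.1 a.2).1
      (mem_centralizer_singleton_iff.1 (mem_inf.1 a.2).2)⟩, C.P.S.rho_Q (mem_inf.1 a.2).1⟩) ?_
    intro a a' h
    exact Subtype.ext (congrArg (fun x : φ.ker => ((x : ↥(C.rad)) : G)) h)
  have h := card_mul_index φ.ker
  rw [index_ker, hrange, hψr] at h
  omega

/-- An abelian subgroup of exponent two of the radical has order at most 64. -/
theorem card_elementary_le {K : Subgroup G} (hK : K ≤ C.rad) (hsq : ∀ k ∈ K, k * k = 1) : Nat.card K ≤ 64 := by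
  classical
  haveI := Fintype.ofFinite G
  haveI := finite_qAut qm
  have hcomm : ∀ k ∈ K, ∀ l ∈ K, k * l = l * k := fun k hk l hl => by
    have h1 := inv_eq_of_mul_eq_one_right (hsq _ (mul_mem hk hl))
    rw [mul_inv_rev, inv_eq_of_mul_eq_one_right (hsq k hk), inv_eq_of_mul_eq_one_right (hsq l hl)] at h1
    exact h1.symm
  let φ : K →* qAut qm :=
    MonoidHom.mk' (fun c => ρ (c : G)) fun x y => C.P.S.rho_mul x (C.mem_rad.1 (hK x.2)).1 y (C.mem_rad.1 (hK y.2)).1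
  have hkerQ : ∀ k : K, φ k = 1 → (k : G) ∈ Q ∧ pb (π t) (π k) = 0 ∧ qm (π k) = 0 := fun k hk => by
    obtain ⟨h1, h2, -⟩ := C.mem_rad.1 (hK k.2)
    have hQ := (C.P.S.rho_ker _ h1).1 hk
    refine ⟨hQ, C.P.perp hQ (mem_centralizer_singleton_iff.1 h2), ?_⟩
    have h3 := C.P.S.sq _ hQ
    rw [hsq _ k.2] at h3
    rcases two_cases (qm (π (k : G))) with e | e
    · exact e
    · rw [e, zb_one] at h3; exact absurd h3.symm C.P.S.z1
  have hcard := card_mul_index φ.ker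
  rw [index_ker] at hcard
  rw [← hcard]
  -- the kernel over a set of vectors
  have hker : ∀ S : Finset V6, (∀ k : K, φ k = 1 → π (k : G) ∈ S) → Nat.card φ.ker ≤ 2 * S.card := by
    intro S hS
    rw [Nat.card_eq_fintype_card, ← Finset.card_univ]
    refine (Finset.card_le_mul_card_image (f := fun k : φ.ker => π ((k : K) : G)) Finset.univ 2 fun v hv => ?_).trans
      (Nat.mul_le_mul_left 2 (Finset.card_le_card fun v hv => ?_))
    · obtain ⟨k₀, -, rfl⟩ := Finset.mem_image.1 hv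
      refine le_trans (Finset.card_le_card_of_injOn (fun k => ((k : K) : G))
        (t := {((k₀ : K) : G), z * ((k₀ : K) : G)}) ?_ ?_) Finset.card_le_two
      · intro k hk
        simp only [Finset.coe_filter, Set.mem_setOf_eq] at hk
        simp only [Finset.coe_insert, Finset.coe_singleton, Set.mem_insert_iff, Set.mem_singleton_iff]
        exact C.P.S.pi_eq (hkerQ _ k₀.2).1 (hkerQ _ k.2).1 hk.2.symm
      · intro k _ k' _ h
        exact Subtype.ext (Subtype.ext h)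
    · obtain ⟨k, -, rfl⟩ := Finset.mem_image.1 hv
      exact hS _ k.2
  have hrange : Nat.card φ.range ≤ 16 := by
    refine le_trans ?_ C.rho_image_le.1
    refine Nat.card_mono (Set.toFinite _) ?_
    rintro g ⟨k, rfl⟩
    exact ⟨k, hK k.2, rfl⟩
  by_cases hs : ∀ k : K, φ k = 1 → Pm (π t) (π (k : G))
  · have h4 : Nat.card φ.ker ≤ 2 * ({0, π t} : Finset V6).card :=
      hker _ fun k hk => by rcases hs k hk with e | e <;> simp [e]
    have h5 : ({0, π t} : Finset V6).card ≤ 2 := Finset.card_le_two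
    calc Nat.card φ.ker * Nat.card φ.range ≤ 4 * 16 := Nat.mul_le_mul (by omega) hrange
      _ = 64 := by norm_num
  · push Not at hs
    obtain ⟨k₀, hk₀, hns⟩ := hs
    obtain ⟨hQ₀, hp₀, hq₀⟩ := hkerQ k₀ hk₀
    have hS : SVec (π t) (π (k₀ : G)) := ⟨hq₀, hp₀, hns⟩
    have h8 : Nat.card φ.ker ≤ 2 * ({0, π t, π (k₀ : G), π (k₀ : G) + π t} : Finset V6).card := by
      refine hker _ fun k hk => ?_
      obtain ⟨hQ, hp, hq⟩ := hkerQ k hk
      have hpb := (C.P.S.commute_iff hQ₀ hQ).1 (hcomm _ k₀.2 _ k.2)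
      rcases fact_7 C.P.p_sing hS hq hp hpb with (e | e) | (e | e)
      · simp [e]
      · simp [e]
      · simp [CharTwo.add_eq_zero.1 (funext fun i => congrFun e i)]
      · simp [show π (k : G) = π (k₀ : G) + π t by rw [← e, add_comm (π (k : G)), add_cancel6]]
    have h9 : ({0, π t, π (k₀ : G), π (k₀ : G) + π t} : Finset V6).card ≤ 4 := Finset.card_le_four
    -- the image fixes the class
    obtain ⟨n, hn, -⟩ := fact_1 C.P.p_sing hS
    obtain ⟨u, hu, huv⟩ := fact_10 C.P.p_sing hn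
    obtain ⟨x, y, hx, hy, -, -, -, -, hxy, -⟩ := fact_11 C.P.p_sing hn hu huv
    obtain ⟨v, hv, hsv⟩ : ∃ v, pb (π t) v = 0 ∧ pb (π (k₀ : G)) v = 1 := by
      rcases two_cases (pb (π (k₀ : G)) x) with e | e
      · rcases fact_7 C.P.p_sing hS hx.1 hx.2.1 e with e' | e'
        · exact absurd e' hx.2.2
        · exact ⟨y, hy.2.1, by rw [← pm_polar e' hy.2.1, hxy]⟩
      · exact ⟨x, hx.2.1, e⟩
    obtain ⟨b, hb, hbz, hbw⟩ := C.P.w_surj hv
    let W : Set (qAut qm) := (fun c => ρ c) '' (C.rad : Set G)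
    let T : Subgroup (qAut qm) :=
      { carrier := W
        one_mem' := ⟨1, one_mem _, C.P.S.rho_one⟩
        mul_mem' := by
          rintro _ _ ⟨c, hc, rfl⟩ ⟨d, hd, rfl⟩
          exact ⟨c * d, mul_mem hc hd, C.P.S.rho_mul c (C.mem_rad.1 hc).1 d (C.mem_rad.1 hd).1⟩
        inv_mem' := by
          rintro _ ⟨c, hc, rfl⟩
          exact ⟨c⁻¹, inv_mem hc, C.P.S.rho_inv (C.mem_rad.1 hc).1⟩ }
    have hle : φ.range ≤ T := by
      rintro g ⟨k, rfl⟩
      exact ⟨k, hK k.2, rfl⟩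
    have hbT : ρ b ∈ T := ⟨b, C.mem_rad_R hb hbz, rfl⟩
    have hnot : ρ b ∉ φ.range := by
      rintro ⟨k, hk⟩
      obtain ⟨h1, -, -⟩ := C.mem_rad.1 (hK k.2)
      have h2 : (ρ b).1 (π (k₀ : G)) = π (k₀ : G) := by
        rw [← hk]
        show (ρ (k : G)).1 _ = _
        rw [← C.P.S.rho_pi _ h1 _ hQ₀, hcomm _ k.2 _ k₀.2, mul_inv_cancel_right]
      have h3 := inT_apply C.P.p_sing (C.P.inT hb hbz) hp₀
      rw [h2, add_self6, pb_comm, pm_polar hbw hp₀, pb_comm, hsv, one_smul] at h3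
      exact C.P.p_sing.1 h3.symm
    have hT16 : Nat.card T ≤ 16 := C.rho_image_le.1
    obtain ⟨m, hm⟩ := Subgroup.card_dvd_of_le hle
    have hm2 : 2 ≤ m := by
      rcases m with _ | _ | m
      · rw [mul_zero] at hm; exact absurd hm Nat.card_pos.ne'
      · exact absurd ((Subgroup.eq_of_le_of_card_ge hle (by omega)).symm ▸ hbT) hnot
      · omega
    have hr8 : Nat.card φ.range ≤ 8 := by
      have := Nat.mul_le_mul_left (Nat.card φ.range) hm2
      omega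
    calc Nat.card φ.ker * Nat.card φ.range ≤ 8 * 8 := Nat.mul_le_mul (by omega) hr8
      _ = 64 := by norm_num

/-- The second kind is not conjugate to the first. -/
theorem not_conj {x : G} (hx : TypeOne z t Q R π π' x) : ¬ IsConj z x := by
  classical
  haveI := Fintype.ofFinite G
  intro hc
  obtain ⟨g, hgz, hgx⟩ := C.exists_exchange hx hc
  have hx' := hx
  obtain ⟨a, b, ha, hat, hb, hbz, hbQ, hxab, hx2, hqb, hqa⟩ := hx'
  obtain ⟨hbC, hbt⟩ := C.P.R_z hb hbz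
  have hxQ : x ∉ Q := fun h => hbQ (by
    have := mul_mem (inv_mem ha) (hxab ▸ h)
    rwa [inv_mul_cancel_left] at this)
  have hxU : x ∈ C.rad := hxab ▸ mul_mem (C.mem_rad_Q ha hat) (C.mem_rad_R hb hbz)
  have hρx : ρ x = ρ b := by rw [hxab, C.P.S.rho_mul a (C.P.S.le ha) b hbC, C.P.S.rho_Q ha, one_mul]
  set D := centralizer ({z} : Set G) ⊓ centralizer ({x} : Set G) with hD
  set H := C.rad ⊓ centralizer ({x} : Set G) with hH
  have hHD : H ≤ D := fun c hc => ⟨(C.mem_rad.1 hc.1).1, hc.2⟩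
  have hcommE : ∀ c ∈ C.rad, c * x * c⁻¹ * x⁻¹ ∈ ({1, z, t, z * t} : Set G) := by
    intro c hc
    obtain ⟨a', b', ha', hat', hb', hbz', rfl⟩ := C.rad_decomp hc
    obtain ⟨hbC', hbt'⟩ := C.P.R_z hb' hbz'
    have e1 := C.P.comm_eq ha hat hb' hbz'
    have e2 := C.P.comm_eq ha' hat' hb hbz
    have hmem : ∀ y ∈ Q, y ∈ R → y ∈ ({1, z, t, z * t} : Set G) := fun y h1 h2 => by
      simpa using C.P.E_cases h1 h2
    have hE1 : a' * a * a'⁻¹ * a⁻¹ ∈ Q ∧ a' * a * a'⁻¹ * a⁻¹ ∈ R := by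
      rw [C.P.S.comm ha' ha, show zb z (pb (π a') (π a)) * (a * a') * a'⁻¹ * a⁻¹ = zb z (pb (π a') (π a)) by group]
      rcases two_cases (pb (π a') (π a)) with e | e <;> rw [e]
      · rw [zb_zero]; exact ⟨one_mem _, one_mem _⟩
      · rw [zb_one]; exact ⟨C.P.S.zQ, C.P.zR⟩
    have hE2 : b' * b * b'⁻¹ * b⁻¹ ∈ Q ∧ b' * b * b'⁻¹ * b⁻¹ ∈ R := by
      rw [C.P.S'.comm hb' hb, show zb t (pb (π' b') (π' b)) * (b * b') * b'⁻¹ * b⁻¹ = zb t (pb (π' b') (π' b)) by group]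
      rcases two_cases (pb (π' b') (π' b)) with e | e <;> rw [e]
      · rw [zb_zero]; exact ⟨one_mem _, one_mem _⟩
      · rw [zb_one]; exact ⟨C.P.tQ, C.P.S'.zQ⟩
    have hE3 := C.P.commutator_mem ha hat hb' hbz'
    have hE4 := C.P.commutator_mem ha' hat' hb hbz
    have key : a' * b' * x * (a' * b')⁻¹ * x⁻¹ =
        (a' * (b' * a * b'⁻¹ * a⁻¹) * a'⁻¹) * (a' * a * a'⁻¹ * a⁻¹) *
          (a * a' * (b' * b * b'⁻¹ * b⁻¹) * a'⁻¹ * a⁻¹) * (a * (b * a' * b⁻¹ * a'⁻¹)⁻¹ * a⁻¹) := by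
      rw [hxab]; group
    refine hmem _ ?_ ?_ <;> rw [key]
    · have c1 : ∀ y u, y ∈ Q → u ∈ Q → u * y * u⁻¹ ∈ Q := fun y u h h' => mul_mem (mul_mem h' h) (inv_mem h')
      refine mul_mem (mul_mem (mul_mem (c1 _ _ hE3.1 ha') hE1.1) ?_) (c1 _ _ (inv_mem hE4.1) ha)
      rw [show a * a' * (b' * b * b'⁻¹ * b⁻¹) * a'⁻¹ * a⁻¹ = (a * a') * (b' * b * b'⁻¹ * b⁻¹) * (a * a')⁻¹ by group]
      exact c1 _ _ hE2.1 (mul_mem ha ha')
    · have c1 : ∀ y u, y ∈ Q → y ∈ R → u * z = z * u → u * t = t * u → u * y * u⁻¹ ∈ R := fun y u h h' hu hu' => by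
        rw [C.P.E_central h h' hu hu', mul_inv_cancel_right]; exact h'
      have hzc : ∀ u ∈ Q, u * z = z * u := fun u hu => C.P.S.z_comm hu
      refine mul_mem (mul_mem (mul_mem (c1 _ _ hE3.1 hE3.2 (hzc _ ha') hat') hE1.2) ?_)
        (c1 _ _ (inv_mem hE4.1) (inv_mem hE4.2) (hzc _ ha) hat)
      rw [show a * a' * (b' * b * b'⁻¹ * b⁻¹) * a'⁻¹ * a⁻¹ = (a * a') * (b' * b * b'⁻¹ * b⁻¹) * (a * a')⁻¹ by group]
      exact c1 _ _ hE2.1 hE2.2 (hzc _ (mul_mem ha ha'))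
        (Commute.mul_left (show Commute a t from hat) hat').eq
  -- `|H| ≥ 256`
  have hH256 : 256 ≤ Nat.card H := by
    have h1024 := C.rho_image_le.2
    let S : Finset G := Finset.univ.filter fun c => c ∈ C.rad
    let E : Finset G := {1, z, t, z * t}
    have hSc : S.card = Nat.card C.rad := by
      rw [Nat.card_eq_fintype_card, Fintype.card_subtype]
    have hfib : ∀ e ∈ S.image (fun c => c * x * c⁻¹ * x⁻¹),
        (S.filter fun c => c * x * c⁻¹ * x⁻¹ = e).card ≤ Nat.card H := by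
      intro e he
      obtain ⟨c₀, hc₀, rfl⟩ := Finset.mem_image.1 he
      have hc₀' := (Finset.mem_filter.1 hc₀).2
      rw [Nat.card_eq_fintype_card, Fintype.card_subtype]
      refine Finset.card_le_card_of_injOn (fun c => c₀⁻¹ * c) ?_ fun u _ v _ h => mul_left_cancel h
      intro c hc
      obtain ⟨hcS, hce⟩ := Finset.mem_filter.1 hc
      refine Finset.mem_filter.2 ⟨Finset.mem_univ _, mem_inf.2 ⟨C.rad.mul_mem (C.rad.inv_mem hc₀')
        (Finset.mem_filter.1 hcS).2, mem_centralizer_singleton_iff.2 ?_⟩⟩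
      have h1 := mul_right_cancel hce
      calc c₀⁻¹ * c * x = c₀⁻¹ * (c * x * c⁻¹) * c := by group
        _ = x * (c₀⁻¹ * c) := by rw [h1]; group
    have h := Finset.card_le_mul_card_image S (Nat.card H) hfib
    have hE : (S.image fun c => c * x * c⁻¹ * x⁻¹).card ≤ 4 :=
      le_trans (Finset.card_le_card (t := E) fun y hy => by
        obtain ⟨c, hc, rfl⟩ := Finset.mem_image.1 hy
        simpa [E] using hcommE c (Finset.mem_filter.1 hc).2) Finset.card_le_four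
    have := Nat.mul_le_mul_left (Nat.card H) hE
    omega
  -- the centralizer of both
  have hDt : ∀ d ∈ D, d ∈ centralizer ({t} : Set G) → d ∈ H := by
    intro d hd hdt
    refine ⟨?_, hd.2⟩
    have hdz := hd.1
    have gp := C.P.rho_p hdz hdt
    have hda : d * a * d⁻¹ ∈ Q := C.P.S.conj_mem hdz ha
    have hdb : d * b * d⁻¹ ∈ R := C.P.S'.conj_mem hdt hb
    have hdbz : d * b * d⁻¹ * z = z * (d * b * d⁻¹) := mem_centralizer_singleton_iff.1
      (mul_mem (mul_mem hdz hbC) (inv_mem hdz))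
    have heq : a⁻¹ * (d * a * d⁻¹) = b * (d * b * d⁻¹)⁻¹ := by
      have h1 : d * x * d⁻¹ = x := by rw [mem_centralizer_singleton_iff.1 hd.2, mul_inv_cancel_right]
      calc a⁻¹ * (d * a * d⁻¹) = a⁻¹ * (d * x * d⁻¹) * (d * b * d⁻¹)⁻¹ := by rw [hxab]; group
        _ = b * (d * b * d⁻¹)⁻¹ := by rw [h1, hxab]; group
    have heQ : a⁻¹ * (d * a * d⁻¹) ∈ Q := mul_mem (inv_mem ha) hda
    have heR : a⁻¹ * (d * a * d⁻¹) ∈ R := heq ▸ mul_mem hb (inv_mem hdb)
    have gu : Pm (π t) ((ρ d).1 (π a) + π a) := by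
      rw [add_comm, ← C.P.S.rho_pi d hdz a ha, ← C.P.S.pi_inv ha, ← C.P.S.pi_mul _ (inv_mem ha) _ hda]
      rcases C.P.E_cases heQ heR with e | e | e | e <;> rw [e]
      · exact .inl C.P.S.pi_one
      · exact .inl C.P.S.pi_z
      · exact .inr rfl
      · exact .inr (C.P.S.pi_zmul C.P.tQ)
    have gv : Pm (π t) ((ρ d).1 (tv (π t) (ρ b)) + tv (π t) (ρ b)) := by
      have h1 := C.P.w_conj hb hbz hdz hdt
      have h2 : ρ (d * b * d⁻¹) = ρ b := by
        have h3 := C.P.S.rho_Q (heq ▸ heQ)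
        rw [C.P.S.rho_mul b hbC _ (inv_mem (mul_mem (mul_mem hdz hbC) (inv_mem hdz))),
          C.P.S.rho_inv (mul_mem (mul_mem hdz hbC) (inv_mem hdz)), mul_inv_eq_one] at h3
        exact h3.symm
      rw [h2] at h1
      exact pm_symm h1
    exact ⟨hdz, hdt, inT_of_fix_pair C.P.p_sing ⟨(C.P.quad_eq hb hbz).trans hqb, C.P.w_perp hb hbz⟩
      ⟨hqa, C.P.perp ha hat⟩ (((C.P.invol_iff ha hat hb hbz).1 (hxab ▸ hx2)).2.symm.trans hqb)
      (C.P.S.rho_mem hdz) gp gv gu⟩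
  have hDmove : ∀ d ∈ D, d * t * d⁻¹ = t ∨ d * t * d⁻¹ = z * t := by
    intro d hd
    have hdz := hd.1
    obtain ⟨u, hu, huv⟩ := fact_10 C.P.p_sing
      (show NVec (π t) (tv (π t) (ρ b)) from ⟨(C.P.quad_eq hb hbz).trans hqb, C.P.w_perp hb hbz⟩)
    have hfix := inT_apply C.P.p_sing (C.P.inT hb hbz) hu.2
    rw [huv, one_smul] at hfix
    have hcomm : ∀ w, (ρ d).1 ((ρ b).1 w) = (ρ b).1 ((ρ d).1 w) := fun w => by
      rw [← hρx, ← qAut_mul_apply, ← qAut_mul_apply, ← C.P.S.rho_mul d hdz x (C.mem_rad.1 hxU).1,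
        ← C.P.S.rho_mul x (C.mem_rad.1 hxU).1 d hdz, mem_centralizer_singleton_iff.1 hd.2]
    have h1 : (ρ b).1 ((ρ d).1 u) + (ρ d).1 u = (ρ d).1 (π t) := by
      rw [← hcomm, ← map_add, hfix]
    have h2 : Pm (π t) ((ρ b).1 ((ρ d).1 u) + (ρ d).1 u) := by
      refine inT_sing_unique C.P.p_sing (C.P.inT hb hbz) ((C.P.quad_eq hb hbz).trans hqb) ?_
      rw [h1]; exact (qAut_map (ρ d) _).trans C.P.p_sing.2
    rw [h1, ← C.P.S.rho_pi d hdz t C.P.tQ] at h2
    rcases h2 with e | e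
    · rw [C.P.S.rho_pi d hdz t C.P.tQ] at e
      exact absurd ((ρ d).1.map_eq_zero_iff.1 e) C.P.p_sing.1
    · exact C.P.S.pi_eq C.P.tQ (C.P.S.conj_mem hdz C.P.tQ) e.symm
  have hD2 : Nat.card D ≤ 2 * Nat.card H := by
    let S : Finset G := Finset.univ.filter fun c => c ∈ D
    have hSc : S.card = Nat.card D := by rw [Nat.card_eq_fintype_card, Fintype.card_subtype]
    have hfib : ∀ e ∈ S.image (fun d => d * t * d⁻¹),
        (S.filter fun d => d * t * d⁻¹ = e).card ≤ Nat.card H := by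
      intro e he
      obtain ⟨d₀, hd₀, rfl⟩ := Finset.mem_image.1 he
      have hd₀' := (Finset.mem_filter.1 hd₀).2
      rw [Nat.card_eq_fintype_card, Fintype.card_subtype]
      refine Finset.card_le_card_of_injOn (fun c => d₀⁻¹ * c) ?_ fun u _ v _ h => mul_left_cancel h
      intro d hd
      obtain ⟨hdS, hde⟩ := Finset.mem_filter.1 hd
      have hm : d₀⁻¹ * d ∈ D := mul_mem (inv_mem hd₀') (Finset.mem_filter.1 hdS).2
      refine Finset.mem_filter.2 ⟨Finset.mem_univ _, hDt _ hm (mem_centralizer_singleton_iff.2 ?_)⟩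
      calc d₀⁻¹ * d * t = d₀⁻¹ * (d * t * d⁻¹) * d := by group
        _ = t * (d₀⁻¹ * d) := by rw [hde]; group
    have h := Finset.card_le_mul_card_image S (Nat.card H) hfib
    have hE : (S.image fun d => d * t * d⁻¹).card ≤ 2 :=
      le_trans (Finset.card_le_card (t := {t, z * t}) fun y hy => by
        obtain ⟨d, hd, rfl⟩ := Finset.mem_image.1 hy
        simpa using hDmove d (Finset.mem_filter.1 hd).2) Finset.card_le_two
    have := Nat.mul_le_mul_left (Nat.card H) hE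
    omega
  -- the intersection with the conjugate
  set H' := H.map (MulAut.conj g).toMonoidHom with hH'
  have hH'c : Nat.card H' = Nat.card H := card_map_of_injective (MulEquiv.injective _)
  have hmapz : ∀ c, c ∈ centralizer ({x} : Set G) → g * c * g⁻¹ ∈ centralizer ({z} : Set G) := fun c hc => by
    rw [mem_centralizer_singleton_iff, ← hgx]
    calc g * c * g⁻¹ * (g * x * g⁻¹) = g * (c * x) * g⁻¹ := by group
      _ = g * x * g⁻¹ * (g * c * g⁻¹) := by rw [mem_centralizer_singleton_iff.1 hc]; group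
  have hH'D : H' ≤ D := by
    rintro _ ⟨c, hc, rfl⟩
    refine ⟨hmapz c hc.2, mem_centralizer_singleton_iff.2 ?_⟩
    show g * c * g⁻¹ * x = x * (g * c * g⁻¹)
    rw [← hgz]
    calc g * c * g⁻¹ * (g * z * g⁻¹) = g * (c * z) * g⁻¹ := by group
      _ = g * z * g⁻¹ * (g * c * g⁻¹) := by
        rw [mem_centralizer_singleton_iff.1 (C.mem_rad.1 hc.1).1]; group
  have hsq : ∀ k ∈ H ⊓ H', k * k = 1 := by
    rintro k ⟨hk, ⟨c, hc, hck⟩⟩
    have hsqE : ∀ w ∈ H, w * w ∈ ({1, z, t, z * t} : Set G) := by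
      intro w hw
      obtain ⟨a', b', ha', hat', hb', hbz', rfl⟩ := C.rad_decomp hw.1
      obtain ⟨h1, h2⟩ := C.P.commutator_mem ha' hat' hb' hbz'
      have e : a' * b' * (a' * b') = (a' * (b' * a' * b'⁻¹ * a'⁻¹) * a'⁻¹) * (a' * a') * (b' * b') := by group
      have hz' : ∀ y ∈ Q, y ∈ R → y ∈ ({1, z, t, z * t} : Set G) := fun y g1 g2 => by
        simpa using C.P.E_cases g1 g2
      rw [e, C.P.E_central h1 h2 (C.P.S.z_comm ha') hat', mul_inv_cancel_right, C.P.S.sq a' ha', C.P.S'.sq b' hb']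
      have hzb : ∀ c, zb z c ∈ Q ∧ zb z c ∈ R := fun c => by
        rcases two_cases c with rfl | rfl <;> simp [zb_zero, zb_one, C.P.S.zQ, C.P.zR]
      have htb : ∀ c, zb t c ∈ Q ∧ zb t c ∈ R := fun c => by
        rcases two_cases c with rfl | rfl <;> simp [zb_zero, zb_one, C.P.tQ, C.P.S'.zQ]
      exact hz' _ (mul_mem (mul_mem h1 (hzb _).1) (htb _).1) (mul_mem (mul_mem h2 (hzb _).2) (htb _).2)
    have hc2 := hsqE c hc
    have hk2 := hsqE k hk
    have hk' : k * k = g * (c * c) * g⁻¹ := by rw [← hck]; simp [mul_assoc]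
    rw [hk'] at hk2 ⊢
    simp only [Set.mem_insert_iff, Set.mem_singleton_iff] at hc2 hk2
    -- the images of `z`, `t`, `z t` avoid the four group
    have hzt_not : ∀ e, (e = t ∨ e = z * t) → g * e * g⁻¹ ≠ z ∧ g * e * g⁻¹ ≠ t ∧ g * e * g⁻¹ ≠ z * t := by
      intro e he
      have hne : e ≠ x := fun h => hxQ (by
        rw [← h]; rcases he with rfl | rfl
        exacts [C.P.tQ, mul_mem C.P.S.zQ C.P.tQ])
      have heQ : e ∈ Q := by
        rcases he with rfl | rfl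
        exacts [C.P.tQ, mul_mem C.P.S.zQ C.P.tQ]
      have hkey : ∀ h : G, g * e * g⁻¹ = h * z * h⁻¹ → h * z * h⁻¹ ∈ Q → h * z * h⁻¹ ≠ z → False := by
        intro h e1 h1 h2
        refine C.not_near hx ⟨h, h1, h2, ?_⟩
        have h3 := C.hsymm (g⁻¹ * h) (by
          rw [show g⁻¹ * h * z * (g⁻¹ * h)⁻¹ = g⁻¹ * (h * z * h⁻¹) * g by group, ← e1,
            show g⁻¹ * (g * e * g⁻¹) * g = e by group]
          exact heQ)
        rwa [show (g⁻¹ * h)⁻¹ * z * (g⁻¹ * h) = h⁻¹ * (g * z * g⁻¹) * h by group, hgz] at h3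
      obtain ⟨g₁, hg₁, -⟩ := C.conj_t
      refine ⟨fun h => hne ?_, fun h => hkey g₁ (h.trans hg₁.symm) (hg₁ ▸ C.P.tQ) (hg₁ ▸ C.P.ne), fun h => ?_⟩
      · calc e = g⁻¹ * (g * e * g⁻¹) * g := by group
          _ = x := by rw [h, ← hgx]; group
      · obtain ⟨q, hq, -, hqt⟩ := C.P.exists_swap
        have hq' : q * g₁ * z * (q * g₁)⁻¹ = z * t := by rw [← hqt, ← hg₁]; group
        refine hkey (q * g₁) (h.trans hq'.symm) (hq' ▸ mul_mem C.P.S.zQ C.P.tQ) fun h' => ?_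
        rw [hq'] at h'
        exact C.P.S'.z1 (mul_eq_left.1 h')
    have hzx : g * z * g⁻¹ ∉ ({z, t, z * t} : Set G) := by
      rw [hgz]
      intro h
      simp only [Set.mem_insert_iff, Set.mem_singleton_iff] at h
      refine hxQ ?_
      rcases h with h | h | h <;> rw [h]
      exacts [C.P.S.zQ, C.P.tQ, mul_mem C.P.S.zQ C.P.tQ]
    by_contra hne
    rcases hc2 with e | e | e | e <;> rw [e] at hk2 hne
    · exact hne (by group)
    · exact hzx (by simpa using hk2.resolve_left hne)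
    · obtain ⟨n1, n2, n3⟩ := hzt_not t (.inl rfl)
      rcases hk2 with h | h | h | h
      exacts [hne h, n1 h, n2 h, n3 h]
    · obtain ⟨n1, n2, n3⟩ := hzt_not (z * t) (.inr rfl)
      rcases hk2 with h | h | h | h
      exacts [hne h, n1 h, n2 h, n3 h]
  have hK := C.card_elementary_le (K := H ⊓ H') (fun k hk => hk.1.1) hsq
  -- `|H : H ⊓ H'| ≤ |D : H'|`
  have h1 : H'.relIndex H ≤ H'.relIndex D := relIndex_le_of_le_right hHD (Subgroup.index_ne_zero_of_finite (H := H'.subgroupOf D))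
  have h2 := card_mul_index (H'.subgroupOf H)
  have h3 := card_mul_index (H'.subgroupOf D)
  rw [Nat.card_congr (subgroupOfEquivOfLe hH'D).toEquiv, hH'c] at h3
  have h4 : Nat.card (H'.subgroupOf H) = Nat.card ↥(H ⊓ H') := by
    rw [Nat.card_congr ((H'.subgroupOf H).equivMapOfInjective H.subtype H.subtype_injective).toEquiv,
      subgroupOf_map_subtype, inf_comm]
  rw [h4] at h2
  change Nat.card ↥(H ⊓ H') * H'.relIndex H = Nat.card H at h2
  change Nat.card H * H'.relIndex D = Nat.card D at h3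
  have h5 : H'.relIndex D ≤ 2 := by
    by_contra h
    push Not at h
    have := Nat.mul_le_mul_left (Nat.card H) h
    omega
  have h6 := Nat.mul_le_mul hK (h1.trans h5)
  omega

end Config

end CfsgLib.SuzType
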